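import Mathlib
import Cfsg.Agent.Lib.Signalizer2.Main
import Cfsg.Agent.Lib.Components.LocalBalanceCenter
import Cfsg.Agent.Lib.Components.Bender
import Cfsg.Agent.Lib.Transfer.Fusion
import Cfsg.Agent.Lib.Transfer.NormalPComplement
import Cfsg.Prelude.Def_CaseTheorems

/-!
# Strongly closed elementary abelian 2-subgroups with two classes of involutions

If `B` is elementary abelian of order at least eight, closed under fusion into 2-groups
containing it, a Sylow 2-subgroup of its centralizer, such that the centralizer of each of its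
involutions is the product of its odd core and the normalizer of `B` in it, and if two of its
involutions are not conjugate, then `B ⊔ O(G)` is normal.
-/

set_option autoImplicit false
set_option linter.style.haveILetI false

open scoped Pointwise

namespace CfsgLib.StrongTwoClasses

open Cfsg Subgroup CfsgLib.Base

universe u

variable {G : Type u} [Group G]

/-- `B` is closed under fusion into every 2-subgroup containing it. -/
def ClosedTwo (B : Subgroup G) : Prop :=
  ∀ P : Subgroup G, IsPGroup 2 P → B ≤ P → ∀ e ∈ B, ∀ g : G, g * e * g⁻¹ ∈ P → g * e * g⁻¹ ∈ B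

theorem mem_of_closedTwo {B : Subgroup G} (h : ClosedTwo B) {P : Subgroup G} (hP : IsPGroup 2 P)
    (hBP : B ≤ P) {e : G} (he : e ∈ B) {g : G} {x : G} (hx : g * e * g⁻¹ = x) (hxP : x ∈ P) :
    x ∈ B := by
  subst hx; exact h P hP hBP e he g hxP

/-- A cyclic group generated by a 2-element. -/
theorem isPGroup_zpowers_two {b : G} {n : ℕ} (hb : b ^ 2 ^ n = 1) : IsPGroup 2 (zpowers b) := by
  rintro ⟨x, hx⟩
  obtain ⟨j, rfl⟩ := mem_zpowers_iff.1 hx
  exact ⟨n, Subtype.ext (by
    rw [SubmonoidClass.coe_pow, OneMemClass.coe_one, ← zpow_natCast, ← zpow_mul, mul_comm, zpow_mul,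
      zpow_natCast, hb, one_zpow])⟩

/-- An element of odd order in `W ⊔ ⟨f⟩`, `f` an involution normalising the odd group `W`, lies
in `W`. -/
theorem eq_one_of_odd_mul {W : Subgroup G} (hW : Odd (Nat.card W)) {w f : G} (hw : w ∈ W)
    (hf : f * f = 1) (hfn : f ∈ normalizer (W : Set G)) (hodd : Odd (orderOf (w * f))) :
    f = 1 := by
  have hfi : f⁻¹ = f := inv_eq_of_mul_eq_one_right hf
  have h2 : (w * f) ^ 2 ∈ W := by
    have e : (w * f) ^ 2 = w * (f * w * f⁻¹) := by rw [hfi, sq]; group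
    rw [e]
    exact mul_mem hw ((mem_normalizer_iff.1 hfn w).1 hw)
  have hx : w * f ∈ W := CfsgLib.Signalizer2.mem_of_sq_mem hodd h2
  have hfW : f ∈ W := by simpa using mul_mem (inv_mem hw) hx
  exact CfsgLib.Signalizer2.eq_one_of_eq_inv (CfsgLib.Signalizer2.odd_orderOf hW hfW) hfi.symm

/-- Two involutions whose product has odd order are conjugate. -/
theorem exists_conj_of_odd_mul {a q : G} (ha : a * a = 1) (hq : q * q = 1)
    (hodd : Odd (orderOf (a * q))) : ∃ g : G, g * a * g⁻¹ = q := by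
  obtain ⟨k, hk⟩ := hodd
  have hai : a⁻¹ = a := inv_eq_of_mul_eq_one_right ha
  have hqi : q⁻¹ = q := inv_eq_of_mul_eq_one_right hq
  set r := a * q with hr
  have hrn : r ^ (2 * k + 1) = 1 := hk ▸ pow_orderOf_eq_one r
  have hinv : a * r * a = r⁻¹ := by
    rw [hr, mul_inv_rev, hai, hqi, ← mul_assoc, ha, one_mul]
  have hpow : ∀ j : ℕ, a * r ^ j * a = (r ^ j)⁻¹ := by
    intro j
    induction j with
    | zero => simpa using ha
    | succ j ih =>
      calc a * r ^ (j + 1) * a = (a * r ^ j * a) * (a * r * a) := by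
            rw [pow_succ]
            calc a * (r ^ j * r) * a = a * r ^ j * (a * a) * r * a := by rw [ha, mul_one]; group
              _ = _ := by group
        _ = (r ^ (j + 1))⁻¹ := by rw [ih, hinv, ← mul_inv_rev, ← pow_succ']
  refine ⟨r ^ k, ?_⟩
  have h1 : r ^ k * a = a * (r ^ k)⁻¹ := by
    rw [← hpow k, ← mul_assoc, ← mul_assoc, ha, one_mul]
  calc r ^ k * a * (r ^ k)⁻¹ = a * (r ^ (2 * k))⁻¹ := by rw [h1, two_mul, pow_add]; group
    _ = a * r := by
      rw [inv_eq_of_mul_eq_one_right (show r ^ (2 * k) * r = 1 by rw [← pow_succ]; exact hrn)]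
    _ = q := by rw [hr, ← mul_assoc, ha, one_mul]

/-- Every subgroup containing a 2-group has a Sylow 2-subgroup containing it. -/
theorem exists_twoGroup_ge [Finite G] {B K : Subgroup G} (hB : IsPGroup 2 B) (hBK : B ≤ K) :
    ∃ U : Subgroup G, B ≤ U ∧ U ≤ K ∧ IsPGroup 2 U ∧ ¬ 2 ∣ U.relIndex K := by
  haveI : Fact (Nat.Prime 2) := ⟨Nat.prime_two⟩
  obtain ⟨R, hR⟩ := (hB.comap_subtype (K := K)).exists_le_sylow
  refine ⟨(R : Subgroup K).map K.subtype, ?_, map_subtype_le _, R.2.map _, ?_⟩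
  · intro b hb
    exact ⟨⟨b, hBK hb⟩, hR (mem_subgroupOf.2 hb), rfl⟩
  · rw [relIndex, subgroupOf, comap_map_eq_self_of_injective K.subtype_injective]
    exact R.not_dvd_index

variable [Finite G] {B : Subgroup G}

theorem centralizerPPrimeCore_le (b : G) :
    centralizerPPrimeCore 2 b ≤ centralizer ({b} : Set G) := map_subtype_le _

theorem centralizer_le_normalizer_core (b : G) :
    centralizer ({b} : Set G) ≤ normalizer (centralizerPPrimeCore 2 b : Set G) :=
  le_normalizer_map_pPrimeCore _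

theorem odd_card_core (b : G) : Odd (Nat.card (centralizerPPrimeCore 2 b)) :=
  Nat.coprime_two_right.1 (coprime_card_map_pPrimeCore _)

theorem le_core {b : G} {M : Subgroup G} (hM : M ≤ centralizer ({b} : Set G))
    (hn : centralizer ({b} : Set G) ≤ normalizer (M : Set G)) (hodd : Odd (Nat.card M)) :
    M ≤ centralizerPPrimeCore 2 b :=
  le_map_pPrimeCore hM hn (Nat.coprime_two_right.2 hodd)

theorem conj_mem_core {g b x : G} (hx : x ∈ centralizerPPrimeCore 2 b) :
    g * x * g⁻¹ ∈ centralizerPPrimeCore 2 (g * b * g⁻¹) :=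
  CfsgLib.Components.map_centralizerPPrimeCore_le (MulAut.conj g) b ⟨x, hx, rfl⟩

/-- The hypotheses. -/
structure Hyp (B : Subgroup G) : Prop where
  elem : IsElementaryAbelian 2 B
  closed : ClosedTwo B
  sylow : ¬ 2 ∣ B.relIndex (centralizer (B : Set G))
  loc : ∀ b ∈ B, b ≠ 1 → ∀ g ∈ centralizer ({b} : Set G),
    ∃ o ∈ centralizerPPrimeCore 2 b, ∃ n ∈ normalizer (B : Set G) ⊓ centralizer ({b} : Set G),
      g = o * n

namespace Hyp

variable (H : Hyp B)
include H

theorem sqB {b : G} (hb : b ∈ B) : b * b = 1 := by rw [← sq]; exact H.elem.2 b hb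

theorem invB {b : G} (hb : b ∈ B) : b⁻¹ = b := inv_eq_of_mul_eq_one_right (H.sqB hb)

theorem commB {b c : G} (hb : b ∈ B) (hc : c ∈ B) : b * c = c * b := by
  haveI := H.elem.1
  exact congrArg Subtype.val (mul_comm' (⟨b, hb⟩ : B) ⟨c, hc⟩)

theorem le_centralizer {b : G} (hb : b ∈ B) : B ≤ centralizer ({b} : Set G) := fun _ hc =>
  mem_centralizer_singleton_iff.2 (H.commB hc hb)

theorem isPGroup : IsPGroup 2 B := fun x => ⟨1, Subtype.ext (by simpa using H.elem.2 x x.2)⟩

/-- `C(B) = O × B` with `O` odd and normalised by `N(B)`. -/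
theorem exists_complement : ∃ O : Subgroup G, O ≤ centralizer (B : Set G) ∧ Odd (Nat.card O) ∧
    normalizer (B : Set G) ≤ normalizer (O : Set G) ∧
      ∀ g ∈ centralizer (B : Set G), ∃ w ∈ O, ∃ f ∈ B, g = w * f := by
  haveI : Fact (Nat.Prime 2) := ⟨Nat.prime_two⟩
  haveI := H.elem.1
  set C := centralizer (B : Set G) with hC
  have hBC : B ≤ C := fun b hb => mem_centralizer_iff.2 fun c hc => H.commB hc hb
  let P : Sylow 2 C := (H.isPGroup.comap_subtype (K := C)).toSylow H.sylow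
  have hcen : normalizer ((P : Subgroup C) : Set C) ≤ centralizer ((P : Subgroup C) : Set C) :=
    fun x _ => mem_centralizer_iff.2 fun p hp =>
      Subtype.ext (mem_centralizer_iff.1 x.2 p (mem_subgroupOf.1 hp))
  let N := (MonoidHom.transferSylow P hcen).ker
  have hN : N.IsComplement' (P : Subgroup C) :=
    MonoidHom.ker_transferSylow_isComplement' P hcen
  have hNodd : Odd (Nat.card N) := by
    rw [← hN.index_eq_card, ← Nat.not_even_iff_odd, even_iff_two_dvd]
    exact P.not_dvd_index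
  have hNle : N ≤ oddCore C := le_oddCore hNodd
  refine ⟨(oddCore C).map C.subtype, map_subtype_le _,
    Nat.coprime_two_right.1 (coprime_card_map_pPrimeCore C), ?_, fun g hg => ?_⟩
  · refine le_trans ?_ (normalizer_le_normalizer_map_subtype C _)
    exact CfsgLib.Coprime.le_normalizer_centralizer le_rfl
  · obtain ⟨⟨⟨w, hw⟩, ⟨f, hf⟩⟩, he⟩ := hN.2 ⟨g, hg⟩
    exact ⟨w, ⟨w, hNle hw, rfl⟩, f, mem_subgroupOf.1 hf, (congrArg Subtype.val he).symm⟩

/-- Balance. -/
theorem balance {a b : G} (ha : a ∈ B) (hb : b ∈ B) (hb1 : b ≠ 1) :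
    centralizerPPrimeCore 2 a ⊓ centralizer ({b} : Set G) ≤ centralizerPPrimeCore 2 b := by
  rintro x ⟨hxa, hxb⟩
  obtain ⟨o, ho, n, ⟨hnB, hnb⟩, rfl⟩ := H.loc b hb hb1 x hxb
  set θb := centralizerPPrimeCore 2 b with hθ
  have hBn : ∀ f ∈ B, f ∈ normalizer (θb : Set G) := fun f hf =>
    centralizer_le_normalizer_core b (H.le_centralizer hb hf)
  have hx2 : Odd (orderOf (o * n)) := CfsgLib.Signalizer2.odd_orderOf (odd_card_core a) hxa
  have hnC : n ∈ centralizer (B : Set G) := by
    refine mem_centralizer_iff.2 fun e he => ?_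
    have hf : n * e * n⁻¹ ∈ B := (mem_normalizer_iff.1 hnB e).1 he
    set f := n * e * n⁻¹ with hfd
    have h1 : (o * n) * e * (o * n)⁻¹ * e⁻¹ ∈ centralizerPPrimeCore 2 a := by
      have := mul_mem hxa ((mem_normalizer_iff.1
        (centralizer_le_normalizer_core a (H.le_centralizer ha he)) _).1 (inv_mem hxa))
      simpa [mul_assoc] using this
    have h2 : (o * n) * e * (o * n)⁻¹ * e⁻¹ = o * (f * o⁻¹ * f⁻¹) * (f * e) := by
      rw [hfd, H.invB he, mul_inv_rev]; group
    have h3 := eq_one_of_odd_mul (odd_card_core b)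
      (mul_mem ho ((mem_normalizer_iff.1 (hBn f hf) _).1 (inv_mem ho)))
      (H.sqB (mul_mem hf he)) (hBn _ (mul_mem hf he))
      (h2 ▸ CfsgLib.Signalizer2.odd_orderOf (odd_card_core a) h1)
    have hfe : f = e := by
      rw [← H.invB he]; exact eq_inv_of_mul_eq_one_left h3
    calc e * n = f * n := by rw [hfe]
      _ = n * e := by rw [hfd]; group
  obtain ⟨O, hOC, hOodd, hON, hOdec⟩ := H.exists_complement
  have hOb : O ≤ centralizer ({b} : Set G) :=
    hOC.trans (centralizer_le (Set.singleton_subset_iff.2 hb))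
  have hOθ : O ≤ θb := by
    refine le_sup_left.trans (le_core (sup_le hOb (centralizerPPrimeCore_le b)) ?_ ?_)
    · intro g hg
      obtain ⟨o', ho', n', ⟨hn', hn'b⟩, rfl⟩ := H.loc b hb hb1 g hg
      refine mul_mem (le_normalizer (mem_sup_right ho')) ?_
      exact (CfsgLib.Coprime.le_normalizer_sup_sup (A := zpowers n')
        (zpowers_le.2 (hON hn'))
        (zpowers_le.2 (centralizer_le_normalizer_core b hn'b))) (mem_zpowers n')
    · exact (hOodd.mul (odd_card_core b)).of_dvd_nat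
        (CfsgLib.Coprime.card_sup_dvd (hOb.trans (centralizer_le_normalizer_core b)))
  obtain ⟨w, hw, f, hf, rfl⟩ := hOdec n hnC
  have h4 := eq_one_of_odd_mul (odd_card_core b) (mul_mem ho (hOθ hw)) (H.sqB hf) (hBn f hf)
    (by rwa [mul_assoc])
  subst h4
  rw [mul_one]
  exact mul_mem ho (hOθ hw)

/-- The subgroup generated by the cores. -/
theorem exists_odd_closure (h8 : 8 ≤ Nat.card B) :
    ∃ W : Subgroup G, Odd (Nat.card W) ∧
      (∀ b ∈ B, b ≠ 1 → centralizerPPrimeCore 2 b ≤ W) ∧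
      normalizer (B : Set G) ≤ normalizer (W : Set G) := by
  haveI : Fact (Nat.Prime 2) := ⟨Nat.prime_two⟩
  obtain ⟨A₀, hA₀B, hA₀⟩ : ∃ A₀ ≤ B, Nat.card A₀ = 8 := by
    obtain ⟨n, hn⟩ := IsPGroup.iff_card.1 H.isPGroup
    obtain ⟨K, hK⟩ := Sylow.exists_subgroup_card_pow_prime 2 (G := B) (n := 3) (by
      rw [hn]
      refine pow_dvd_pow 2 ?_
      by_contra h
      have : 2 ^ n ≤ 2 ^ 2 := Nat.pow_le_pow_right (by norm_num) (by omega)
      omega)
    exact ⟨K.map B.subtype, map_subtype_le _, by rw [card_map_subtype, hK]; norm_num⟩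
  have hel : IsElementaryAbelian 2 A₀ := by
    refine ⟨⟨⟨fun x y => Subtype.ext (H.commB (hA₀B x.2) (hA₀B y.2))⟩⟩, fun a ha => ?_⟩
    exact H.elem.2 a (hA₀B ha)
  have hsf : IsSignalizerFunctor 2 A₀ (centralizerPPrimeCore (G := G) 2) := by
    refine ⟨fun a _ _ => centralizerPPrimeCore_le a,
      fun a _ _ => fun hd => Nat.not_even_iff_odd.2 (odd_card_core a) (even_iff_two_dvd.2 hd),
      fun a ha _ b hb x hx => ?_, fun a ha _ b hb hb1 => H.balance (hA₀B ha) (hA₀B hb) hb1⟩
    exact (mem_normalizer_iff.1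
      (centralizer_le_normalizer_core a (H.le_centralizer (hA₀B ha) (hA₀B hb))) x).1 hx
  obtain ⟨X, hX, hXle⟩ := CfsgLib.Signalizer2.complete ⟨hel, hA₀, hsf⟩
  haveI := hel.1
  have hnc : ¬ IsCyclic A₀ := by
    intro hcy
    obtain ⟨g, hg⟩ := IsCyclic.exists_generator (α := A₀)
    have h1 := orderOf_eq_card_of_forall_mem_zpowers hg
    have h2 : orderOf g ≤ 2 := orderOf_le_of_pow_eq_one (by norm_num)
      (Subtype.ext (by simpa using hel.2 g g.2))
    omega
  have hθX : ∀ b ∈ B, b ≠ 1 → centralizerPPrimeCore 2 b ≤ X := by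
    intro b hb hb1
    refine CfsgLib.Coprime.le_of_centralizer_le_of_not_isCyclic hnc
      ((hA₀B.trans (H.le_centralizer hb)).trans (centralizer_le_normalizer_core b)) ?_ ?_
    · rw [hA₀]
      exact (Nat.coprime_two_left.2 (odd_card_core b)).pow_left 3
    · intro a ha ha1
      exact (H.balance hb (hA₀B ha) ha1).trans (hXle a ⟨ha, ha1⟩)
  refine ⟨⨆ b : {b : G // b ∈ B ∧ b ≠ 1}, centralizerPPrimeCore 2 (b : G), ?_,
    fun b hb hb1 => le_iSup_of_le ⟨b, hb, hb1⟩ le_rfl, ?_⟩
  · have hXodd : Odd (Nat.card X) := by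
      rw [← Nat.not_even_iff_odd, even_iff_two_dvd]; exact hX.2.1
    exact hXodd.of_dvd_nat (card_dvd_of_le (iSup_le fun b => hθX b b.2.1 b.2.2))
  · refine CfsgLib.Components.le_normalizer_of_conj_mem fun g hg x hx => ?_
    have hmap : (⨆ b : {b : G // b ∈ B ∧ b ≠ 1}, centralizerPPrimeCore 2 (b : G)).map
        (MulAut.conj g).toMonoidHom ≤
          ⨆ b : {b : G // b ∈ B ∧ b ≠ 1}, centralizerPPrimeCore 2 (b : G) := by
      rw [Subgroup.map_iSup]
      refine iSup_le fun b => ?_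
      refine (CfsgLib.Components.map_centralizerPPrimeCore_le (MulAut.conj g) (b : G)).trans ?_
      exact le_iSup_of_le ⟨g * b * g⁻¹, (mem_normalizer_iff.1 hg _).1 b.2.1,
        fun e => b.2.2 (conj_eq_one_iff.1 e)⟩ le_rfl
    exact hmap ⟨x, hx, rfl⟩

/-- Every conjugate of an element of `B` not conjugate to `a` lies in a subgroup normalised
by all centralizers of involutions of `B`. -/
theorem conj_mem_of_not_conj {M : Subgroup G}
    (hBM : B ≤ M) (hM : ∀ b ∈ B, b ≠ 1 → centralizer ({b} : Set G) ≤ normalizer (M : Set G))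
    {a e : G} (ha : a ∈ B) (ha1 : a ≠ 1) (he : e ∈ B)
    (hne : ∀ g : G, g * e * g⁻¹ ≠ a) {h : G} : h * e * h⁻¹ ∈ M := by
  haveI : Fact (Nat.Prime 2) := ⟨Nat.prime_two⟩
  set q := h * e * h⁻¹ with hqd
  have haa : a * a = 1 := H.sqB ha
  have hai : a⁻¹ = a := H.invB ha
  have hqq : q * q = 1 := by
    calc q * q = h * (e * e) * h⁻¹ := by rw [hqd]; group
      _ = 1 := by rw [H.sqB he]; group
  have hqi : q⁻¹ = q := inv_eq_of_mul_eq_one_right hqq
  set r := a * q with hrd
  have har : a * r = q := by rw [hrd, ← mul_assoc, haa, one_mul]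
  have hinv : a * r * a⁻¹ = r⁻¹ := by rw [har, hrd, mul_inv_rev, hqi, hai]
  have hpow : ∀ j : ℕ, a * r ^ j * a⁻¹ = (r ^ j)⁻¹ := fun j => by
    rw [← inv_pow, ← hinv, conj_pow]
  have hsplit : ∀ i : ℕ, a * r ^ (2 * i) = (r ^ i)⁻¹ * a * r ^ i := fun i => by
    rw [← hpow i, two_mul, pow_add]; group
  have heven : ∀ j : ℕ, Even j → ∃ c : G, c * a * c⁻¹ = a * r ^ j := by
    rintro j ⟨i, rfl⟩
    exact ⟨(r ^ i)⁻¹, by rw [← two_mul, hsplit, inv_inv]⟩
  have hodd : ∀ j : ℕ, Odd j → ∃ c : G, c * q * c⁻¹ = a * r ^ j := by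
    rintro j ⟨i, rfl⟩
    refine ⟨(r ^ i)⁻¹, ?_⟩
    rw [inv_inv, ← har, pow_succ, ← mul_assoc (a := a) (b := r ^ (2 * i)), hsplit]
    have hc : r * r ^ i = r ^ i * r := (Commute.self_pow r i).eq
    calc (r ^ i)⁻¹ * (a * r) * r ^ i = (r ^ i)⁻¹ * a * (r * r ^ i) := by group
      _ = (r ^ i)⁻¹ * a * (r ^ i * r) := by rw [hc]
      _ = _ := by group
  rcases Nat.even_or_odd (orderOf r) with ⟨m, hm⟩ | ho
  swap
  · obtain ⟨g, hg⟩ := exists_conj_of_odd_mul haa hqq ho
    refine absurd ?_ (hne (g⁻¹ * h))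
    calc g⁻¹ * h * e * (g⁻¹ * h)⁻¹ = g⁻¹ * q * g := by rw [hqd]; group
      _ = a := by rw [← hg]; group
  have hn0 : 0 < orderOf r := orderOf_pos r
  rcases Nat.even_or_odd m with ⟨j, hj⟩ | hmo
  · -- a dihedral group of order eight would be fused into `B`
    exfalso
    set s := r ^ j with hsd
    have hs4 : s ^ 4 = 1 := by
      rw [hsd, ← pow_mul, show j * 4 = orderOf r by omega]; exact pow_orderOf_eq_one r
    have hs2 : s * s ≠ 1 := by
      rw [hsd, ← pow_add]
      exact fun e => absurd (orderOf_le_of_pow_eq_one (by omega) e) (by omega)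
    have hconj : ∃ e' ∈ B, ∃ c : G, c * e' * c⁻¹ = a * s := by
      rcases Nat.even_or_odd j with hje | hjo
      · obtain ⟨c, hc⟩ := heven j hje
        exact ⟨a, ha, c, hc⟩
      · obtain ⟨c, hc⟩ := hodd j hjo
        exact ⟨e, he, c * h, by rw [← hc, hqd]; group⟩
    obtain ⟨e', he', c, hc⟩ := hconj
    have hsP : IsPGroup 2 (zpowers s) :=
      isPGroup_zpowers_two (n := 2) (by norm_num; exact hs4)
    have haP : IsPGroup 2 (zpowers a) :=
      isPGroup_zpowers_two (n := 1) (by rw [pow_one, sq, haa])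
    have hsn : zpowers a ≤ normalizer (zpowers s : Set G) := by
      rw [zpowers_le, mem_normalizer_iff]
      intro x
      have key : ∀ y ∈ zpowers s, a * y * a⁻¹ ∈ zpowers s := by
        intro y hy
        obtain ⟨k, rfl⟩ := mem_zpowers_iff.1 hy
        rw [← conj_zpow, hsd, hpow j]
        exact zpow_mem (inv_mem (mem_zpowers _)) _
      refine ⟨key x, fun hx => ?_⟩
      have := key _ hx
      rw [hai] at this
      simpa [← mul_assoc, haa, mul_assoc _ a a] using this
    have hD : IsPGroup 2 ↥(zpowers a ⊔ zpowers s) :=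
      haP.to_sup_of_normal_right' hsP hsn
    obtain ⟨T, hT⟩ := hD.exists_le_sylow
    obtain ⟨U, hU⟩ := H.isPGroup.exists_le_sylow
    obtain ⟨k, hk⟩ := MulAction.exists_smul_eq G T U
    have hin : ∀ y ∈ zpowers a ⊔ zpowers s, k * y * k⁻¹ ∈ (U : Subgroup G) := by
      intro y hy
      rw [← hk, CfsgLib.Transfer.mem_coe_smul_sylow_iff]
      rw [show k⁻¹ * (k * y * k⁻¹) * k = y by group]
      exact hT hy
    have h1 : k * a * k⁻¹ ∈ B :=
      mem_of_closedTwo H.closed U.2 hU ha rfl (hin a (mem_sup_left (mem_zpowers a)))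
    have h2 : k * (a * s) * k⁻¹ ∈ B :=
      mem_of_closedTwo H.closed U.2 hU he' (g := k * c) (by rw [← hc]; group)
        (hin _ (mul_mem (mem_sup_left (mem_zpowers a)) (mem_sup_right (mem_zpowers s))))
    have h3 : a * (a * s) = a * s * a := by
      have h4 := H.commB h1 h2
      have : k * (a * (a * s)) * k⁻¹ = k * (a * s * a) * k⁻¹ := by
        calc k * (a * (a * s)) * k⁻¹ = (k * a * k⁻¹) * (k * (a * s) * k⁻¹) := by group
          _ = (k * (a * s) * k⁻¹) * (k * a * k⁻¹) := h4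
          _ = _ := by group
      exact mul_left_cancel (mul_right_cancel this)
    have h5 : s = a * s * a⁻¹ := by rw [hai, ← h3, ← mul_assoc, haa, one_mul]
    rw [hsd, hpow j, ← hsd, eq_inv_iff_mul_eq_one] at h5
    exact hs2 h5
  · -- a central involution of the dihedral group
    set i := r ^ m with hid
    have hi2 : i * i = 1 := by rw [hid, ← pow_add, ← hm, pow_orderOf_eq_one]
    have hii : i⁻¹ = i := inv_eq_of_mul_eq_one_right hi2
    have hi1 : i ≠ 1 := fun e' => absurd (orderOf_le_of_pow_eq_one hmo.pos e') (by omega)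
    have hai' : a * i = i * a := by
      have := hpow m
      rw [← hid, hii, mul_inv_eq_iff_eq_mul] at this
      exact this
    have hqi' : q * i = i * q := by
      rw [← har]
      have hri : r * i = i * r := (Commute.self_pow r m).eq
      calc a * r * i = a * (r * i) := mul_assoc _ _ _
        _ = a * i * r := by rw [hri, mul_assoc]
        _ = i * (a * r) := by rw [hai', mul_assoc]
    obtain ⟨c, hc⟩ := hodd m hmo
    obtain ⟨U, hBU, hUC, hU2, hUmax⟩ :=
      exists_twoGroup_ge H.isPGroup (H.le_centralizer ha)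
    have hV : IsPGroup 2 (zpowers (a * i)) :=
      isPGroup_zpowers_two (n := 1) (by
        rw [pow_one, sq]
        calc a * i * (a * i) = a * (i * a) * i := by group
          _ = a * (a * i) * i := by rw [hai']
          _ = 1 := by rw [← mul_assoc a a i, haa, one_mul, hi2])
    have hVC : zpowers (a * i) ≤ centralizer ({a} : Set G) := by
      rw [zpowers_le, mem_centralizer_singleton_iff]
      rw [mul_assoc, ← hai']
    obtain ⟨k, hk, hkU⟩ :=
      CfsgLib.Transfer.exists_conj_le_of_isPGroup hU2 hUC hUmax hV hVC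
    have h1 : k⁻¹ * (a * i) * k ∈ B :=
      mem_of_closedTwo H.closed hU2 hBU he (g := k⁻¹ * (c * h))
        (by rw [hid, ← hc, hqd]; group) (hkU _ (mem_zpowers _))
    have hka : k⁻¹ * a * k = a := by
      rw [mul_assoc, ← mem_centralizer_singleton_iff.1 hk, ← mul_assoc, inv_mul_cancel, one_mul]
    set i' := k⁻¹ * i * k with hi'd
    have hi'B : i' ∈ B := by
      have e2 : k⁻¹ * (a * i) * k = (k⁻¹ * a * k) * i' := by rw [hi'd]; group
      rw [e2, hka] at h1
      simpa [← mul_assoc, haa] using mul_mem ha h1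
    have hi'1 : i' ≠ 1 := fun e' => hi1 (by
      calc i = k * i' * k⁻¹ := by rw [hi'd]; group
        _ = 1 := by rw [e']; group)
    obtain ⟨U', hBU', hUC', hU2', hUmax'⟩ :=
      exists_twoGroup_ge H.isPGroup (H.le_centralizer hi'B)
    set q' := k⁻¹ * q * k with hq'd
    have hV' : IsPGroup 2 (zpowers q') :=
      isPGroup_zpowers_two (n := 1) (by
        rw [pow_one, sq, hq'd]
        calc k⁻¹ * q * k * (k⁻¹ * q * k) = k⁻¹ * (q * q) * k := by group
          _ = 1 := by rw [hqq]; group)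
    have hVC' : zpowers q' ≤ centralizer ({i'} : Set G) := by
      rw [zpowers_le, mem_centralizer_singleton_iff, hq'd, hi'd]
      calc k⁻¹ * q * k * (k⁻¹ * i * k) = k⁻¹ * (q * i) * k := by group
        _ = k⁻¹ * (i * q) * k := by rw [hqi']
        _ = _ := by group
    obtain ⟨l, hl, hlU⟩ :=
      CfsgLib.Transfer.exists_conj_le_of_isPGroup hU2' hUC' hUmax' hV' hVC'
    have h2 : l⁻¹ * q' * l ∈ B :=
      mem_of_closedTwo H.closed hU2' hBU' he (g := l⁻¹ * (k⁻¹ * h))
        (by rw [hq'd, hqd]; group) (hlU _ (mem_zpowers _))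
    have h3 : q' ∈ M := by
      have := (mem_normalizer_iff.1 (hM i' hi'B hi'1 hl) _).1 (hBM h2)
      simpa [mul_assoc] using this
    have h4 := (mem_normalizer_iff.1 (hM a ha ha1 hk) _).1 h3
    rw [hq'd] at h4
    simpa [mul_assoc] using h4

/-- The theorem. -/
theorem normal_sup_oddCore (h8 : 8 ≤ Nat.card B)
    (htwo : ∃ a ∈ B, ∃ c ∈ B, a ≠ 1 ∧ c ≠ 1 ∧ ∀ g : G, g * a * g⁻¹ ≠ c) :
    (B ⊔ oddCore G).Normal := by
  obtain ⟨W, hWodd, hθW, hNW⟩ := H.exists_odd_closure h8
  set M := W ⊔ B with hMd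
  have hBW : B ≤ normalizer (W : Set G) := le_normalizer.trans hNW
  have hM : ∀ b ∈ B, b ≠ 1 → centralizer ({b} : Set G) ≤ normalizer (M : Set G) := by
    intro b hb hb1 g hg
    obtain ⟨o, ho, n, hn, rfl⟩ := H.loc b hb hb1 g hg
    refine mul_mem (le_normalizer (mem_sup_left (hθW b hb hb1 ho))) ?_
    exact (CfsgLib.Coprime.le_normalizer_sup_sup hNW le_rfl) hn.1
  obtain ⟨a, ha, c, hc, ha1, hc1, hac⟩ := htwo
  have hall : ∀ e ∈ B, ∀ h : G, h * e * h⁻¹ ∈ M := by
    intro e he h
    by_cases hx : ∃ g : G, g * e * g⁻¹ = a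
    · obtain ⟨g, hg⟩ := hx
      refine H.conj_mem_of_not_conj le_sup_right hM hc hc1 he fun g' hg' => hac (g' * g⁻¹) ?_
      rw [← hg', ← hg]; group
    · exact H.conj_mem_of_not_conj le_sup_right hM ha ha1 he fun g hg => hx ⟨g, hg⟩
  set R := normalClosure (B : Set G) with hRd
  have hRM : R ≤ M := by
    refine (closure_le _).2 fun x hx => ?_
    obtain ⟨e, he, hxe⟩ := Group.mem_conjugatesOfSet_iff.1 hx
    obtain ⟨g, rfl⟩ := isConj_iff.1 hxe
    exact hall e he g
  have hRn : R.Normal := normalClosure_normal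
  have hmemW : ∀ x ∈ M, Odd (orderOf x) → x ∈ W := by
    intro x hx ho
    rw [hMd, sup_comm, CfsgLib.Coprime.mem_sup_iff_of_le_normalizer hBW] at hx
    obtain ⟨f, hf, w, hw, rfl⟩ := hx
    have hfw : f * w * f⁻¹ ∈ W := (mem_normalizer_iff.1 (hBW hf) w).1 hw
    have e2 : f * w = f * w * f⁻¹ * f := by group
    rw [e2] at ho ⊢
    rw [eq_one_of_odd_mul hWodd hfw (H.sqB hf) (hBW hf) ho, mul_one]
    simpa [eq_one_of_odd_mul hWodd hfw (H.sqB hf) (hBW hf) ho] using hfw
  haveI hDn : (R ⊓ W).Normal := by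
    refine ⟨fun x hx g => ⟨hRn.conj_mem x hx.1 g, hmemW _ (hRM (hRn.conj_mem x hx.1 g)) ?_⟩⟩
    rw [show g * x * g⁻¹ = MulAut.conj g x from rfl, MulEquiv.orderOf_eq]
    exact CfsgLib.Signalizer2.odd_orderOf hWodd hx.2
  have hDO : R ⊓ W ≤ oddCore G :=
    le_oddCore (hWodd.of_dvd_nat (card_dvd_of_le inf_le_right))
  have hBR : B ≤ R := le_normalClosure
  have heq : B ⊔ oddCore G = R ⊔ oddCore G := by
    refine le_antisymm (sup_le_sup_right hBR _) (sup_le (fun x hx => ?_) le_sup_right)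
    have hxM := hRM hx
    rw [hMd, sup_comm, CfsgLib.Coprime.mem_sup_iff_of_le_normalizer hBW] at hxM
    obtain ⟨f, hf, w, hw, rfl⟩ := hxM
    refine mul_mem (mem_sup_left hf) (mem_sup_right (hDO ⟨?_, hw⟩))
    simpa using mul_mem (inv_mem (hBR hf)) hx
  rw [heq]
  infer_instance

end Hyp

end CfsgLib.StrongTwoClasses
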