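import Mathlib
import Cfsg.Agent.Lib.StrongTwoClasses.Main

/-!
# Local tools for groups with a closed elementary abelian 2-subgroup
-/

set_option autoImplicit false
set_option linter.style.haveILetI false
set_option linter.unusedSectionVars false

open scoped Pointwise

namespace CfsgLib.StrongTwoClasses

open Cfsg Subgroup CfsgLib.Base

universe u

variable {G : Type u} [Group G] [Finite G]

theorem mem_normalizer_of_forall {A : Subgroup G} {g : G} (h : ∀ a ∈ A, g * a * g⁻¹ ∈ A) :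
    g ∈ normalizer (A : Set G) := by
  have hle : A.map (MulAut.conj g).toMonoidHom ≤ A := by
    rintro _ ⟨a, ha, rfl⟩; exact h a ha
  have heq := Subgroup.eq_of_le_of_card_ge hle
    (le_of_eq (Subgroup.card_map_of_injective (MulAut.conj g).injective).symm)
  refine mem_normalizer_iff.2 fun x => ⟨h x, fun hx => ?_⟩
  obtain ⟨a, ha, he⟩ := heq.ge hx
  obtain rfl : a = x := (MulAut.conj g).injective he
  exact ha

/-- If `g` conjugates `A` into `A ⊔ O`, `O` odd and normalised by `A`, then `g ∈ O · N(A)`. -/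
theorem exists_mul_of_conj_le {A O : Subgroup G} (hA : IsPGroup 2 A) (hO : Odd (Nat.card O))
    (hAO : A ≤ normalizer (O : Set G)) {g : G} (hg : ∀ a ∈ A, g * a * g⁻¹ ∈ A ⊔ O) :
    ∃ o ∈ O, ∃ n ∈ normalizer (A : Set G), g = o * n := by
  haveI : Fact (Nat.Prime 2) := ⟨Nat.prime_two⟩
  have hV : IsPGroup 2 ↥(A.map (MulAut.conj g).toMonoidHom) := hA.map _
  have hVK : A.map (MulAut.conj g).toMonoidHom ≤ A ⊔ O := by
    rintro _ ⟨a, ha, rfl⟩; exact hg a ha
  have hmax : ¬ 2 ∣ A.relIndex (A ⊔ O) := by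
    intro h2
    have h1 : A.relIndex (A ⊔ O) * Nat.card A = Nat.card ↥(A ⊔ O) := by
      rw [mul_comm, ← relIndex_bot_left, ← relIndex_bot_left,
        relIndex_mul_relIndex _ _ _ bot_le le_sup_left]
    have h3 : A.relIndex (A ⊔ O) * Nat.card A ∣ Nat.card O * Nat.card A := by
      rw [h1, mul_comm]; exact CfsgLib.Coprime.card_sup_dvd hAO
    exact Nat.not_even_iff_odd.2 hO
      (even_iff_two_dvd.2 (h2.trans (Nat.dvd_of_mul_dvd_mul_right Nat.card_pos h3)))
  obtain ⟨k, hk, hkV⟩ := CfsgLib.Transfer.exists_conj_le_of_isPGroup hA le_sup_left hmax hV hVK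
  have hn : k⁻¹ * g ∈ normalizer (A : Set G) := mem_normalizer_of_forall fun a ha => by
    have := hkV (g * a * g⁻¹) ⟨a, ha, rfl⟩
    simpa [mul_assoc] using this
  obtain ⟨a, ha, o, ho, rfl⟩ := (CfsgLib.Coprime.mem_sup_iff_of_le_normalizer hAO).1 hk
  refine ⟨a * o * a⁻¹, (mem_normalizer_iff.1 (hAO ha) o).1 ho, a * ((a * o)⁻¹ * g),
    mul_mem (le_normalizer ha) hn, ?_⟩
  group

/-- The centralizer of `b` normalises `A ⊔ O(C(b))`. -/
def Good (A : Subgroup G) (b : G) : Prop :=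
  centralizer ({b} : Set G) ≤ normalizer ((A ⊔ centralizerPPrimeCore 2 b : Subgroup G) : Set G)

theorem Good.loc {A : Subgroup G} {b : G} (hA : IsPGroup 2 A)
    (hAb : A ≤ centralizer ({b} : Set G)) (h : Good A b) {g : G}
    (hg : g ∈ centralizer ({b} : Set G)) :
    ∃ o ∈ centralizerPPrimeCore 2 b, ∃ n ∈ normalizer (A : Set G) ⊓ centralizer ({b} : Set G),
      g = o * n := by
  obtain ⟨o, ho, n, hn, rfl⟩ := exists_mul_of_conj_le hA (odd_card_core b)
    (hAb.trans (centralizer_le_normalizer_core b))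
    (fun a ha => (mem_normalizer_iff.1 (h hg) a).1 (mem_sup_left ha))
  refine ⟨o, ho, n, ⟨hn, ?_⟩, rfl⟩
  simpa using mul_mem (inv_mem (centralizerPPrimeCore_le b ho)) hg

theorem Good.conj {A : Subgroup G} {b : G} (h : Good A b) {n : G}
    (hn : n ∈ normalizer (A : Set G)) : Good A (n * b * n⁻¹) := by
  intro g hg
  have hg' : n⁻¹ * g * n ∈ centralizer ({b} : Set G) := by
    rw [mem_centralizer_singleton_iff] at hg ⊢
    calc n⁻¹ * g * n * b = n⁻¹ * (g * (n * b * n⁻¹)) * n := by group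
      _ = n⁻¹ * (n * b * n⁻¹ * g) * n := by rw [hg]
      _ = b * (n⁻¹ * g * n) := by group
  have key : ∀ {b' m : G}, m ∈ normalizer (A : Set G) →
      ∀ x ∈ A ⊔ centralizerPPrimeCore 2 b',
        m * x * m⁻¹ ∈ A ⊔ centralizerPPrimeCore 2 (m * b' * m⁻¹) := by
    intro b' m hm x hx
    have hle : (A ⊔ centralizerPPrimeCore 2 b').map (MulAut.conj m).toMonoidHom ≤
        A ⊔ centralizerPPrimeCore 2 (m * b' * m⁻¹) := by
      rw [Subgroup.map_sup]
      refine sup_le_sup ?_ ?_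
      · rintro _ ⟨a, ha, rfl⟩; exact (mem_normalizer_iff.1 hm a).1 ha
      · rintro _ ⟨a, ha, rfl⟩; exact conj_mem_core ha
    exact hle ⟨x, hx, rfl⟩
  refine mem_normalizer_of_forall fun x hx => ?_
  have h1 := key (inv_mem hn) x hx
  rw [show n⁻¹ * (n * b * n⁻¹) * n⁻¹⁻¹ = b by group] at h1
  have h2 := key hn _ ((mem_normalizer_iff.1 (h hg') _).1 h1)
  rwa [show n * (n⁻¹ * g * n * (n⁻¹ * x * n⁻¹⁻¹) * (n⁻¹ * g * n)⁻¹) * n⁻¹ = g * x * g⁻¹ by
    group] at h2

/-- Odd cores lift along a central extension by a 2-group. -/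
theorem exists_core_lift {C H : Type*} [Group C] [Finite C] [Group H] (f : C →* H)
    (hf : Function.Surjective f) (hker : IsPGroup 2 f.ker) (hcen : f.ker ≤ center C) {x : C}
    (hx : f x ∈ oddCore H) : ∃ o ∈ oddCore C, f o = f x := by
  haveI : Fact (Nat.Prime 2) := ⟨Nat.prime_two⟩
  haveI : Finite H := Finite.of_surjective f hf
  set X : Subgroup C := (oddCore H).comap f with hX
  have hkX : f.ker ≤ X := fun k hk => by
    show f k ∈ oddCore H
    rw [MonoidHom.mem_ker.1 hk]; exact one_mem _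
  have hodd : ¬ 2 ∣ f.ker.relIndex X := by
    have h1 : f.ker.relIndex X = Nat.card (oddCore H) := by
      rw [← MonoidHom.comap_bot, relIndex_comap, map_comap_eq_self_of_surjective hf,
        relIndex_bot_left]
    rw [h1, ← even_iff_two_dvd, Nat.not_even_iff_odd]
    exact odd_card_oddCore H
  let P : Sylow 2 X := (hker.comap_subtype (K := X)).toSylow hodd
  have hP : normalizer ((P : Subgroup X) : Set X) ≤ centralizer ((P : Subgroup X) : Set X) :=
    fun y _ => mem_centralizer_iff.2 fun p hp =>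
      Subtype.ext (mem_center_iff.1 (hcen (mem_subgroupOf.1 hp)) (y : C)).symm
  let N := (MonoidHom.transferSylow P hP).ker
  have hN : N.IsComplement' (P : Subgroup X) :=
    MonoidHom.ker_transferSylow_isComplement' P hP
  have hNodd : Odd (Nat.card N) := by
    rw [← hN.index_eq_card, ← Nat.not_even_iff_odd, even_iff_two_dvd]
    exact P.not_dvd_index
  haveI : X.Normal := (pPrimeCore_normal 2 H).comap f
  obtain ⟨⟨⟨o, ho⟩, ⟨k, hk⟩⟩, he⟩ := hN.2 ⟨x, hx⟩
  refine ⟨o, ?_, ?_⟩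
  · have h1 : (o : C) ∈ (oddCore X).map X.subtype := ⟨o, le_oddCore hNodd ho, rfl⟩
    rw [oddCore, map_pPrimeCore_eq_inf] at h1
    exact h1.1
  · rw [show x = (o : C) * k from (congrArg Subtype.val he).symm]
    show f o = f ((o : C) * k)
    rw [map_mul, MonoidHom.mem_ker.1 (mem_subgroupOf.1 hk), mul_one]

/-- A Sylow 2-subgroup `B ⋊ ⟨u⟩`, `B` in a normal subgroup of index two, `W = [B, u] = C_B(u)`
closed in `B`: then `⟨W, u⟩ O(H)` is normal. -/
theorem index_two_step {H : Type u} [Group H] [Finite H] (M : Subgroup H) [M.Normal]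
    (hM : M.index = 2) {B W : Subgroup H} {u : H} (hBM : B ≤ M) (hB : IsElementaryAbelian 2 B)
    (hB8 : 8 ≤ Nat.card B) (hWB : W ≤ B) (hW : Nat.card W = 4) (hu : u ∉ M) (hu2 : u * u = 1)
    (hBmax : ¬ 2 ∣ B.relIndex M) (huW : ∀ w ∈ W, u * w * u = w)
    (huB : ∀ b ∈ B, u * b * u * b ∈ W) (hψ : ∀ b ∈ B, u * b * u = b → b ∈ W)
    (hclW : ∀ w ∈ W, ∀ g : H, g * w * g⁻¹ ∈ B → g * w * g⁻¹ ∈ W) :
    (W ⊔ zpowers u ⊔ oddCore H).Normal := by
  classical
  haveI : Fact (Nat.Prime 2) := ⟨Nat.prime_two⟩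
  have sqB : ∀ {b : H}, b ∈ B → b * b = 1 := fun hb => by rw [← sq]; exact hB.2 _ hb
  have invB : ∀ {b : H}, b ∈ B → b⁻¹ = b := fun hb => inv_eq_of_mul_eq_one_right (sqB hb)
  have commB : ∀ {b c : H}, b ∈ B → c ∈ B → b * c = c * b := fun hb hc => by
    haveI := hB.1
    exact congrArg Subtype.val (mul_comm' (⟨_, hb⟩ : B) ⟨_, hc⟩)
  have hui : u⁻¹ = u := inv_eq_of_mul_eq_one_right hu2
  have uu : ∀ x : H, u * (u * x) = x := fun x => by rw [← mul_assoc, hu2, one_mul]
  have hB2 : IsPGroup 2 B := fun x => ⟨1, Subtype.ext (by simpa using hB.2 x x.2)⟩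
  have huB' : ∀ b ∈ B, u * b * u ∈ B := fun b hb => by
    simpa [mul_assoc, sqB hb] using mul_mem (hWB (huB b hb)) hb
  have huN : u ∈ normalizer (B : Set H) :=
    mem_normalizer_of_forall fun b hb => by rw [hui]; exact huB' b hb
  have hMB : ∀ {n : H}, n ∈ M → n ∈ normalizer (B : Set H) → ∀ k : ℕ,
      n ^ 2 ^ k ∈ centralizer (B : Set H) → n ∈ centralizer (B : Set H) := by
    intro n hnM hn k hk
    have hn0 : 0 < orderOf n := orderOf_pos n
    obtain ⟨e, m, hm, hem⟩ := Nat.exists_eq_two_pow_mul_odd hn0.ne'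
    have hp2 : n ^ m ∈ B := by
      have hP : IsPGroup 2 (zpowers (n ^ m)) := isPGroup_zpowers_two (n := e) (by
        rw [← pow_mul, mul_comm, ← hem, pow_orderOf_eq_one])
      have hsup : IsPGroup 2 ↥(zpowers (n ^ m) ⊔ B) :=
        hP.to_sup_of_normal_right' hB2 (zpowers_le.2 (pow_mem hn m))
      have hle : zpowers (n ^ m) ⊔ B ≤ M := sup_le (zpowers_le.2 (pow_mem hnM m)) hBM
      obtain ⟨t, ht⟩ := hsup.index (B.subgroupOf (zpowers (n ^ m) ⊔ B))
      have hd : B.relIndex (zpowers (n ^ m) ⊔ B) ∣ B.relIndex M :=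
        Dvd.intro _ (relIndex_mul_relIndex _ _ _ le_sup_right hle)
      rcases t with _ | t
      · exact (relIndex_eq_one.1 (show B.relIndex (zpowers (n ^ m) ⊔ B) = 1 from ht.trans (pow_zero 2))) (mem_sup_left (mem_zpowers _))
      · exact absurd (((dvd_pow_self 2 (Nat.succ_ne_zero t)).trans ht.symm.dvd).trans hd) hBmax
    have hnm : n ^ m ∈ centralizer (B : Set H) :=
      mem_centralizer_iff.2 fun b hb => commB hb hp2
    obtain ⟨x, y, hy⟩ : IsCoprime (m : ℤ) ((2 ^ k : ℕ) : ℤ) :=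
      Nat.isCoprime_iff_coprime.2 (Nat.Coprime.pow_right k (Nat.coprime_two_right.2 hm))
    have e1 : n = (n ^ m) ^ x * (n ^ 2 ^ k) ^ y := by
      rw [← zpow_natCast n m, ← zpow_natCast n (2 ^ k), ← zpow_mul, ← zpow_mul, ← zpow_add,
        mul_comm (m : ℤ), mul_comm ((2 ^ k : ℕ) : ℤ), hy, zpow_one]
    rw [e1]
    exact mul_mem (zpow_mem hnm _) (zpow_mem hk _)
  have hfix : ∀ n, n ∈ M → n ∈ normalizer (B : Set H) → u * n * u * n⁻¹ ∈ centralizer (B : Set H) := by
    intro n hnM hn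
    have hnW : ∀ w ∈ W, n * w * n⁻¹ ∈ W := fun w hw =>
      hclW w hw n ((mem_normalizer_iff.1 hn w).1 (hWB hw))
    have hnW' : ∀ w ∈ W, n⁻¹ * w * n ∈ W := fun w hw => by
      have := hclW w hw n⁻¹ ((mem_normalizer_iff.1 (inv_mem hn) w).1 (hWB hw))
      simpa using this
    set x := u * n * u * n⁻¹ with hx
    have hxM : x ∈ M := by
      have := ‹M.Normal›.conj_mem n hnM u
      rw [hui] at this
      exact mul_mem this (inv_mem hnM)
    have hxN : x ∈ normalizer (B : Set H) := mul_mem (mul_mem (mul_mem huN hn) huN) (inv_mem hn)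
    have hxW : ∀ w ∈ W, x * w * x⁻¹ = w := by
      intro w hw
      have e : x * w * x⁻¹ = u * (n * (u * (n⁻¹ * w * n) * u) * n⁻¹) * u := by
        rw [hx]; simp only [mul_inv_rev, hui, inv_inv, mul_assoc]
      rw [e, huW _ (hnW' w hw), show n * (n⁻¹ * w * n) * n⁻¹ = w by group, huW w hw]
    have hxB : ∀ b ∈ B, ∃ w ∈ W, x * b * x⁻¹ = b * w := by
      intro b hb
      set b' := n⁻¹ * b * n with hb'
      have hb'B : b' ∈ B := by
        simpa using (mem_normalizer_iff.1 (inv_mem hn) b).1 hb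
      set w₁ := b' * (u * b' * u) with hw₁
      have hw₁W : w₁ ∈ W := by
        rw [hw₁, commB hb'B (huB' _ hb'B)]; exact huB b' hb'B
      set w₂ := n * w₁ * n⁻¹
      have hw₂ : w₂ ∈ W := hnW _ hw₁W
      have e : x * b * x⁻¹ = u * (b * w₂) * u := by
        rw [hx]
        calc u * n * u * n⁻¹ * b * (u * n * u * n⁻¹)⁻¹
            = u * (n * (u * b' * u⁻¹) * n⁻¹) * u⁻¹ := by rw [hb']; group
          _ = u * (n * (b' * w₁) * n⁻¹) * u := by
            rw [hw₁, hui, ← mul_assoc b' b', sqB hb'B, one_mul]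
          _ = u * (b * (n * w₁ * n⁻¹)) * u := by rw [hb']; group
      refine ⟨(u * b * u * b) * w₂, mul_mem (huB b hb) hw₂, ?_⟩
      have e3 : u * b * u = b * (u * b * u * b) := by
        rw [← commB (hWB (huB b hb)) hb, mul_assoc (u * b * u), sqB hb, mul_one]
      calc x * b * x⁻¹ = u * (b * w₂) * u := e
        _ = u * b * u * (u * w₂ * u) := by simp only [mul_assoc, uu]
        _ = _ := by rw [huW w₂ hw₂, ← mul_assoc b, ← e3]
    refine hMB hxM hxN 1 (mem_centralizer_iff.2 fun b hb => ?_)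
    obtain ⟨w, hw, he⟩ := hxB b hb
    have h2 : x * x * b * (x * x)⁻¹ = b := by
      calc x * x * b * (x * x)⁻¹ = (x * (x * b * x⁻¹) * x⁻¹) := by group
        _ = x * (b * w) * x⁻¹ := by rw [he]
        _ = (x * b * x⁻¹) * (x * w * x⁻¹) := by group
        _ = b := by rw [he, hxW w hw, mul_assoc, sqB (hWB hw), mul_one]
    rw [pow_one, sq]
    exact (mul_inv_eq_iff_eq_mul.1 h2).symm
  have hcom : ∀ n, n ∈ M → n ∈ normalizer (B : Set H) → ∀ b ∈ B,
      u * (n * b * n⁻¹) * u * (n * b * n⁻¹) = n * (u * b * u * b) * n⁻¹ := by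
    intro n hnM hn b hb
    have hx := hfix n hnM hn
    set x := u * n * u * n⁻¹ with hxd
    have hb2 : n * (u * b * u) * n⁻¹ ∈ B := (mem_normalizer_iff.1 hn _).1 (huB' b hb)
    have e : u * (n * b * n⁻¹) * u = x * (n * (u * b * u) * n⁻¹) * x⁻¹ := by
      rw [hxd]; simp only [mul_inv_rev, hui, inv_inv, mul_assoc, inv_mul_cancel_left, uu]
    rw [e, ← mem_centralizer_iff.1 hx _ hb2, mul_inv_cancel_right]
    group
  have hψmul : ∀ b ∈ B, ∀ c ∈ B, u * (b * c) * u * (b * c) = (u * b * u * b) * (u * c * u * c) := by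
    intro b hb c hc
    calc u * (b * c) * u * (b * c) = (u * b * u) * ((u * c * u) * b) * c := by
          simp only [mul_assoc, uu]
      _ = (u * b * u) * (b * (u * c * u)) * c := by rw [commB (huB' c hc) hb]
      _ = _ := by simp only [mul_assoc]
  have hWtriv : ∀ n, n ∈ M → n ∈ normalizer (B : Set H) → (∀ w ∈ W, n * w * n⁻¹ = w) →
      n ∈ centralizer (B : Set H) := by
    intro n hnM hn hnw
    have hq : ∀ b ∈ B, ∃ w ∈ W, n * b * n⁻¹ = b * w := by
      intro b hb
      have hb2 : n * b * n⁻¹ ∈ B := (mem_normalizer_iff.1 hn b).1 hb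
      refine ⟨b * (n * b * n⁻¹), hψ _ (mul_mem hb hb2) ?_,
        by rw [← mul_assoc, sqB hb, one_mul]⟩
      have h1 := hψmul b hb _ hb2
      rw [hcom n hnM hn b hb, hnw _ (huB b hb), sqB (hWB (huB b hb))] at h1
      have hw := huB' _ (mul_mem hb hb2)
      calc u * (b * (n * b * n⁻¹)) * u
          = (u * (b * (n * b * n⁻¹)) * u * (b * (n * b * n⁻¹))) * (b * (n * b * n⁻¹)) := by
            rw [mul_assoc (u * _ * u), sqB (mul_mem hb hb2), mul_one]
        _ = _ := by rw [h1, one_mul]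
    refine hMB hnM hn 1 (mem_centralizer_iff.2 fun b hb => ?_)
    obtain ⟨w, hw, he⟩ := hq b hb
    have h2 : n * n * b * (n * n)⁻¹ = b := by
      calc n * n * b * (n * n)⁻¹ = (n * (n * b * n⁻¹) * n⁻¹) := by group
        _ = n * (b * w) * n⁻¹ := by rw [he]
        _ = (n * b * n⁻¹) * (n * w * n⁻¹) := by group
        _ = b := by rw [he, hnw w hw, mul_assoc, sqB (hWB hw), mul_one]
    rw [pow_one, sq]
    exact (mul_inv_eq_iff_eq_mul.1 h2).symm
  have hsW : ∀ n, n ∈ M → n ∈ normalizer (B : Set H) → ∀ s ∈ W, s ≠ 1 → n * s * n⁻¹ = s →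
      n ∈ centralizer (B : Set H) := by
    intro n hnM hn s hs hs1 hns
    refine hMB hnM hn 1 (hWtriv _ (pow_mem hnM _) (pow_mem hn _) ?_)
    intro w hw
    have hnW : ∀ w ∈ W, n * w * n⁻¹ ∈ W := fun w hw =>
      hclW w hw n ((mem_normalizer_iff.1 hn w).1 (hWB hw))
    by_contra hne
    rw [pow_one, sq] at hne
    have e : n * n * w * (n * n)⁻¹ = n * (n * w * n⁻¹) * n⁻¹ := by group
    rw [e] at hne
    set w₁ := n * w * n⁻¹ with hw₁
    set w₂ := n * w₁ * n⁻¹ with hw₂
    have inj : ∀ {x y : H}, n * x * n⁻¹ = n * y * n⁻¹ → x = y := fun h =>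
      mul_left_cancel (mul_right_cancel h)
    have h1 : w ≠ 1 := fun e => hne (by rw [hw₂, hw₁, e]; group)
    have h2 : w ≠ s := fun e => hne (by rw [hw₂, hw₁, e, hns, hns])
    have h3 : w₁ ≠ w := fun e => hne (by rw [hw₂, e, ← hw₁, e])
    have h4 : w₁ ≠ 1 := fun e => h1 (inj (by rw [← hw₁, e]; group))
    have h5 : w₁ ≠ s := fun e => h2 (inj (by rw [← hw₁, e, hns]))
    have h6 : w₂ ≠ w₁ := fun e => h3 (inj (by rw [← hw₂, e, hw₁]))
    have h7 : w₂ ≠ 1 := fun e => h4 (inj (by rw [← hw₂, e]; group))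
    have h8' : w₂ ≠ s := fun e => h5 (inj (by rw [← hw₂, e, hns]))
    let T : Finset H := {1, s, w, w₁, w₂}
    have hT : T.card = 5 := by
      simp [T, hs1.symm, h1.symm, h4.symm, h7.symm, h2.symm, h5.symm, h8'.symm, h3.symm, h6.symm,
        Ne.symm hne]
    have hsub : (T : Set H) ⊆ (W : Set H) := by
      intro z hz
      simp [T] at hz
      rcases hz with rfl | rfl | rfl | rfl | rfl
      exacts [one_mem _, hs, hw, hnW w hw, hnW _ (hnW w hw)]
    have := Set.ncard_le_ncard hsub (Set.toFinite _)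
    rw [Set.ncard_coe_finset, hT, ← Nat.card_coe_set_eq, SetLike.coe_sort_coe, hW] at this
    omega
  have hfixB : ∀ n, n ∈ M → n ∈ normalizer (B : Set H) → ∀ s ∈ B, s ≠ 1 → n * s * n⁻¹ = s →
      n ∈ centralizer (B : Set H) := by
    intro n hnM hn s hs hs1 hns
    by_cases hsw : s ∈ W
    · exact hsW n hnM hn s hsw hs1 hns
    · refine hsW n hnM hn _ (huB s hs) ?_ ?_
      · intro e
        refine hsw (hψ s hs ?_)
        rw [eq_inv_of_mul_eq_one_left e, invB hs]
      · rw [← hcom n hnM hn s hs, hns]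
  -- the theorem of the two classes inside `M`
  set B₀ := B.subgroupOf M with hB₀
  have hB₀2 : IsPGroup 2 B₀ := hB2.comap_subtype
  have hB₀max : ¬ 2 ∣ B₀.index := hBmax
  have hmem : ∀ {x : M}, x ∈ normalizer (B₀ : Set M) → (x : H) ∈ normalizer (B : Set H) := by
    intro x hx
    refine mem_normalizer_of_forall fun b hb => ?_
    exact mem_subgroupOf.1 ((mem_normalizer_iff.1 hx ⟨b, hBM hb⟩).1 (mem_subgroupOf.2 hb))
  have hyp : Hyp B₀ := by
    refine ⟨⟨⟨⟨fun x y => Subtype.ext (Subtype.ext (commB (mem_subgroupOf.1 x.2)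
      (mem_subgroupOf.1 y.2)))⟩⟩, fun x hx => Subtype.ext (by
        simpa using hB.2 x (mem_subgroupOf.1 hx))⟩, ?_, ?_, ?_⟩
    · intro P hP hBP e he g hge
      have hPe : P = B₀ := (hB₀2.toSylow hB₀max).3 hP hBP
      rw [← hPe]
      exact hge
    · exact fun h => hB₀max (h.trans (relIndex_dvd_index_of_le (fun b hb =>
        mem_centralizer_iff.2 fun c hc => Subtype.ext
          (commB (mem_subgroupOf.1 hc) (mem_subgroupOf.1 hb)))))
    · intro b hb hb1 g hg
      set C := centralizer ({b} : Set M) with hC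
      have hBC : B₀ ≤ C := fun c hc => mem_centralizer_singleton_iff.2
        (Subtype.ext (commB (mem_subgroupOf.1 hc) (mem_subgroupOf.1 hb)))
      let P : Sylow 2 C := (hB₀2.comap_subtype (K := C)).toSylow
        (fun h => hB₀max (h.trans (relIndex_dvd_index_of_le hBC)))
      have hP : normalizer ((P : Subgroup C) : Set C) ≤ centralizer ((P : Subgroup C) : Set C) := by
        intro n hn
        have hn0 : (n : M) ∈ normalizer (B₀ : Set M) := by
          refine mem_normalizer_of_forall fun c hc => ?_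
          exact mem_subgroupOf.1
            ((mem_normalizer_iff.1 hn ⟨c, hBC hc⟩).1 (mem_subgroupOf.2 hc))
        have hcent := hfixB _ (n : M).2 (hmem hn0) (b : H) (mem_subgroupOf.1 hb)
          (fun e => hb1 (Subtype.ext e)) (by
            rw [mul_inv_eq_iff_eq_mul]
            exact congrArg Subtype.val (mem_centralizer_singleton_iff.1 n.2))
        exact mem_centralizer_iff.2 fun c hc => Subtype.ext (Subtype.ext
          (mem_centralizer_iff.1 hcent _ (mem_subgroupOf.1 (mem_subgroupOf.1 hc))))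
      let N := (MonoidHom.transferSylow P hP).ker
      have hN : N.IsComplement' (P : Subgroup C) :=
        MonoidHom.ker_transferSylow_isComplement' P hP
      have hNodd : Odd (Nat.card N) := by
        rw [← hN.index_eq_card, ← Nat.not_even_iff_odd, even_iff_two_dvd]
        exact P.not_dvd_index
      obtain ⟨⟨⟨o, ho⟩, ⟨f, hf⟩⟩, he⟩ := hN.2 ⟨g, hg⟩
      exact ⟨o, ⟨o, le_oddCore hNodd ho, rfl⟩, f,
        ⟨le_normalizer (mem_subgroupOf.1 hf), f.2⟩, (congrArg Subtype.val he).symm⟩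
  have hcard₀ : Nat.card B₀ = Nat.card B :=
    Nat.card_congr (subgroupOfEquivOfLe hBM).toEquiv
  obtain ⟨b₁, hb₁, hb₁W⟩ : ∃ b ∈ B, b ∉ W := by
    by_contra h
    push Not at h
    have := card_le_of_le (show B ≤ W from h)
    omega
  obtain ⟨w₁, hw₁⟩ : ∃ w : W, w ≠ 1 := by
    by_contra h
    push Not at h
    have : Subsingleton W := ⟨fun a b => (h a).trans (h b).symm⟩
    have := Finite.card_le_one_iff_subsingleton.2 this
    omega
  have hR := hyp.normal_sup_oddCore (hcard₀ ▸ hB8) ⟨⟨w₁, hBM (hWB w₁.2)⟩, hWB w₁.2, ⟨b₁, hBM hb₁⟩,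
    hb₁, fun e => hw₁ (Subtype.ext (congrArg Subtype.val e :)),
    fun e => hb₁W (by have e' : b₁ = 1 := congrArg Subtype.val e; rw [e']; exact one_mem _), fun g e => hb₁W (by
      have e' : (g : H) * w₁ * (g : H)⁻¹ = b₁ := congrArg Subtype.val e
      exact e' ▸ hclW _ w₁.2 g (e'.symm ▸ hb₁))⟩
  set O := (oddCore M).map M.subtype with hO
  haveI hOn : O.Normal := by
    rw [hO, oddCore, map_pPrimeCore_eq_inf]; infer_instance
  have hOodd : Odd (Nat.card O) := Nat.coprime_two_right.1 (coprime_card_map_pPrimeCore M)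
  have hOle : O ≤ oddCore H := le_oddCore hOodd
  have hdec : ∀ g ∈ M, ∃ o ∈ O, ∃ n ∈ normalizer (B : Set H), n ∈ M ∧ g = o * n := by
    intro g hg
    obtain ⟨o, ho, n, hn, he⟩ := exists_mul_of_conj_le (A := B₀) (O := oddCore M) (g := ⟨g, hg⟩)
      hB₀2 (odd_card_oddCore M) (normalizer_eq_top (H := oddCore M) ▸ le_top)
      (fun a ha => hR.conj_mem a (mem_sup_left ha) _)
    exact ⟨o, ⟨o, ho, rfl⟩, n, hmem hn, n.2, congrArg Subtype.val he⟩
  have hCB : ∀ x ∈ M, x ∈ centralizer (B : Set H) → ∃ o ∈ O, ∃ f ∈ B, x = o * f := by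
    intro x hxM hx
    obtain ⟨OB, hOBC, hOBodd, hOBn, hOBdec⟩ := hyp.exists_complement
    obtain ⟨w, hw, f, hf, he⟩ := hOBdec ⟨x, hxM⟩ (mem_centralizer_iff.2 fun c hc =>
      Subtype.ext (mem_centralizer_iff.1 hx _ (mem_subgroupOf.1 hc)))
    refine ⟨w, ⟨w, ?_, rfl⟩, f, hf, congrArg Subtype.val he⟩
    haveI : (oddCore M ⊔ OB).Normal := by
      rw [← normalizer_eq_top_iff, eq_top_iff]
      intro g _
      obtain ⟨o, ho, n, hn, he⟩ := exists_mul_of_conj_le (A := B₀) (O := oddCore M) (g := g)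
        hB₀2 (odd_card_oddCore M) (normalizer_eq_top (H := oddCore M) ▸ le_top)
        (fun a ha => hR.conj_mem a (mem_sup_left ha) _)
      subst he
      refine mul_mem (le_normalizer (mem_sup_left ho)) ?_
      exact (CfsgLib.Coprime.le_normalizer_sup_sup (A := normalizer (B₀ : Set M))
        (normalizer_eq_top (H := oddCore M) ▸ le_top) hOBn) hn
    exact (sup_comm (oddCore M) OB ▸ le_oddCore (N := oddCore M ⊔ OB) ((hOBodd.mul (odd_card_oddCore M)).of_dvd_nat
      (sup_comm OB (oddCore M) ▸ CfsgLib.Coprime.card_sup_dvd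
        (normalizer_eq_top (H := oddCore M) ▸ le_top)))) (mem_sup_left hw)
  -- the normalizer of `B` in `M` fixes `⟨W, u⟩` modulo the odd core
  set R := W ⊔ zpowers u ⊔ oddCore H with hRd
  have hnu : ∀ n ∈ M, n ∈ normalizer (B : Set H) → n * u * n⁻¹ ∈ R := by
    intro n hnM hn
    have hx := hfix n hnM hn
    have hxM : u * n * u * n⁻¹ ∈ M := by
      have := ‹M.Normal›.conj_mem n hnM u
      rw [hui] at this
      exact mul_mem this (inv_mem hnM)
    obtain ⟨o, ho, f, hf, hxe⟩ := hCB _ hxM hx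
    have e : n * u * n⁻¹ = u * (o * f) := by
      rw [← hxe]; simp only [mul_assoc, uu]
    have h1 : (u * (o * f)) * (u * (o * f)) = 1 := by
      rw [← e]; calc n * u * n⁻¹ * (n * u * n⁻¹) = n * (u * u) * n⁻¹ := by group
        _ = 1 := by rw [hu2]; group
    set f' := u * f * u with hf'
    have hf'B : f' ∈ B := huB' f hf
    have h2 : (u * o * u) * (f' * o * f'⁻¹) * (f' * f) = 1 := by
      rw [← h1, hf']; simp only [mul_assoc, mul_inv_rev, hui, inv_mul_cancel_left, uu]
    have h3 : f' * f ∈ O := by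
      rw [← inv_eq_of_mul_eq_one_right h2]
      refine inv_mem (mul_mem ?_ (hOn.conj_mem o ho f'))
      simpa [hui] using hOn.conj_mem o ho u
    have h4 : f' * f = 1 := CfsgLib.Signalizer2.eq_one_of_eq_inv
      (CfsgLib.Signalizer2.odd_orderOf hOodd h3) (invB (mul_mem hf'B hf)).symm
    have hfW : f ∈ W := hψ f hf (by rw [← hf', eq_inv_of_mul_eq_one_left h4, invB hf])
    rw [e]
    exact mul_mem (mem_sup_left (mem_sup_right (mem_zpowers u)))
      (mul_mem (mem_sup_right (hOle ho)) (mem_sup_left (mem_sup_left hfW)))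
  rw [← normalizer_eq_top_iff, eq_top_iff]
  intro g _
  have hMR : M ≤ normalizer (R : Set H) := by
    intro g hg
    obtain ⟨o, ho, n, hn, hnM, rfl⟩ := hdec g hg
    refine mul_mem (le_normalizer (mem_sup_right (hOle ho))) ?_
    refine mem_normalizer_of_forall fun r hr => ?_
    have hle : R.map (MulAut.conj n).toMonoidHom ≤ R := by
      rw [hRd, Subgroup.map_sup, Subgroup.map_sup, MonoidHom.map_zpowers]
      refine sup_le (sup_le ?_ ?_) ?_
      · rintro _ ⟨w, hw, rfl⟩
        exact mem_sup_left (mem_sup_left (hclW w hw n ((mem_normalizer_iff.1 hn w).1 (hWB hw))))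
      · exact zpowers_le.2 (hnu n hnM hn)
      · rintro _ ⟨x, hx, rfl⟩
        exact mem_sup_right ((pPrimeCore_normal 2 H).conj_mem x hx n)
    exact hle ⟨r, hr, rfl⟩
  by_cases hgM : g ∈ M
  · exact hMR hgM
  · have hgu : g * u ∈ M := (mul_mem_iff_of_index_two hM).2 (iff_of_false hgM hu)
    have := mul_mem (hMR hgu)
      (le_normalizer (mem_sup_left (mem_sup_right (mem_zpowers u)) : u ∈ R))
    rwa [mul_assoc, hu2, mul_one] at this

end CfsgLib.StrongTwoClasses
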