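import Mathlib

/-!
# Five points modulo the all-one vector
-/

set_option autoImplicit false

namespace CfsgLib.StrongTwoClasses

/-- Vectors over the field of two elements with five coordinates. -/
abbrev V5 : Type := Fin 5 → ZMod 2

/-- The all-one vector. -/
def one5 : V5 := fun _ => 1

/-- Unit vectors. -/
def unit5 (i : Fin 5) : V5 := Pi.single i 1

/-- The vector moved by a permutation. -/
def pm (σ : Equiv.Perm (Fin 5)) (v : V5) : V5 := fun i => v (σ.symm i)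

/-- Equality modulo the all-one vector. -/
def Eqv (v w : V5) : Prop := v = w ∨ v = w + one5

instance (v w : V5) : Decidable (Eqv v w) := inferInstanceAs (Decidable (_ ∨ _))

/-- Whether a vector represents one of the five points. -/
def cls (v : V5) : Bool :=
  decide ((Finset.univ.filter fun i => v i = 1).card = 1) ||
    decide ((Finset.univ.filter fun i => v i = 1).card = 4)

/-- Evenness on the first four coordinates. -/
def EvenFour (v : V5) : Prop := v 0 + v 1 + v 2 + v 3 = 0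

instance (v : V5) : Decidable (EvenFour v) := inferInstanceAs (Decidable (_ = _))

/-- The four-group fixing the last point. -/
def IsV (σ : Equiv.Perm (Fin 5)) : Prop :=
  σ 4 = 4 ∧ σ * σ = 1 ∧ Equiv.Perm.sign σ = 1

instance (σ : Equiv.Perm (Fin 5)) : Decidable (IsV σ) := inferInstanceAs (Decidable (_ ∧ _ ∧ _))

/-- The involutions of the four-group. -/
def τ₁ : Equiv.Perm (Fin 5) := Equiv.swap 0 1 * Equiv.swap 2 3
/-- The involutions of the four-group. -/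
def τ₂ : Equiv.Perm (Fin 5) := Equiv.swap 0 2 * Equiv.swap 1 3
/-- The involutions of the four-group. -/
def τ₃ : Equiv.Perm (Fin 5) := Equiv.swap 0 3 * Equiv.swap 1 2
/-- A three-cycle permuting them. -/
def ρ₀ : Equiv.Perm (Fin 5) := Equiv.swap 1 2 * Equiv.swap 2 3

theorem isV_τ : IsV τ₁ ∧ IsV τ₂ ∧ IsV τ₃ := by decide +kernel

theorem τ_ne : τ₁ ≠ 1 ∧ τ₂ ≠ 1 ∧ τ₃ ≠ 1 ∧ τ₁ ≠ τ₂ := by decide +kernel

theorem τ_mul : τ₁ * τ₂ = τ₃ ∧ τ₂ * τ₁ = τ₃ ∧ τ₁ * τ₁ = 1 ∧ τ₂ * τ₂ = 1 ∧ τ₃ * τ₃ = 1 := by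
  decide +kernel

theorem ρ₀_spec : Equiv.Perm.sign ρ₀ = 1 ∧ ρ₀ 4 = 4 ∧ ρ₀ * τ₁ * ρ₀⁻¹ = τ₂ ∧
    ρ₀ * τ₂ * ρ₀⁻¹ = τ₃ := by decide +kernel

theorem isV_cases : ∀ σ : Equiv.Perm (Fin 5), IsV σ → σ = 1 ∨ σ = τ₁ ∨ σ = τ₂ ∨ σ = τ₃ := by
  decide +kernel

theorem exists_even_move : ∀ i : Fin 5, i ≠ 4 →
    ∃ σ : Equiv.Perm (Fin 5), Equiv.Perm.sign σ = 1 ∧ σ 4 = 4 ∧ σ 0 = i := by decide +kernel

theorem exists_even_to : ∀ i : Fin 5,
    ∃ σ : Equiv.Perm (Fin 5), Equiv.Perm.sign σ = 1 ∧ σ 4 = i := by decide +kernel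

theorem exists_even_pair : ∀ i j : Fin 5, i ≠ j →
    ∃ σ : Equiv.Perm (Fin 5), Equiv.Perm.sign σ = 1 ∧ σ 3 = i ∧ σ 4 = j := by decide +kernel

theorem eq_one_of_fix_units : ∀ σ : Equiv.Perm (Fin 5),
    (∀ i, Eqv (pm σ (unit5 i)) (unit5 i)) → σ = 1 := by decide +kernel

theorem pm_unit5 : ∀ (σ : Equiv.Perm (Fin 5)) (i : Fin 5), pm σ (unit5 i) = unit5 (σ i) := by
  decide +kernel

theorem pm_pm (σ τ : Equiv.Perm (Fin 5)) (v : V5) : pm σ (pm τ v) = pm (σ * τ) v := rfl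

theorem pm_one (v : V5) : pm 1 v = v := rfl

theorem pm_add (σ : Equiv.Perm (Fin 5)) (v w : V5) : pm σ (v + w) = pm σ v + pm σ w := rfl

theorem cases_cls : ∀ v : V5, ¬ Eqv v 0 →
    (cls v = true ∧ ∃ i, Eqv v (unit5 i)) ∨
      (cls v = false ∧ ∃ i j, i ≠ j ∧ Eqv v (unit5 i + unit5 j)) := by decide +kernel

theorem cls_facts : cls (unit5 4) = true ∧ cls (unit5 3 + unit5 4) = false ∧
    ¬ Eqv (unit5 4) 0 ∧ ¬ Eqv (unit5 3 + unit5 4) 0 ∧ ¬ Eqv (unit5 0) 0 := by decide +kernel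

theorem evenFour_facts : EvenFour (unit5 4) ∧ EvenFour (unit5 0 + unit5 1) ∧
    EvenFour (unit5 0 + unit5 2) ∧ EvenFour 0 ∧ ¬ EvenFour (unit5 0) := by decide +kernel

theorem evenFour_cls : ∀ v : V5, EvenFour v → cls v = true → Eqv v (unit5 4) := by decide +kernel

theorem cls_unit : ∀ i : Fin 5, cls (unit5 i) = true := by decide +kernel

theorem evenFour_span : ∀ v : V5, EvenFour v → ∃ a b : ZMod 2,
    Eqv v (a • (unit5 0 + unit5 1) + b • (unit5 0 + unit5 2)) ∨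
      Eqv v (a • (unit5 0 + unit5 1) + b • (unit5 0 + unit5 2) + unit5 4) := by decide +kernel

theorem span_inj : ∀ a b : ZMod 2,
    (Eqv (a • (unit5 0 + unit5 1) + b • (unit5 0 + unit5 2)) 0 ∨
      Eqv (a • (unit5 0 + unit5 1) + b • (unit5 0 + unit5 2)) (unit5 4)) → a = 0 ∧ b = 0 := by
  decide +kernel

theorem evenFour_or : ∀ v : V5, EvenFour v ∨ EvenFour (v + unit5 0) := by decide +kernel

theorem evenFour_add : ∀ v w : V5, EvenFour v → EvenFour w → EvenFour (v + w) := by decide +kernel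

theorem evenFour_pm : ∀ σ : Equiv.Perm (Fin 5), IsV σ → ∀ v : V5, EvenFour v →
    EvenFour (pm σ v) := by decide +kernel

theorem fix_both : ∀ v : V5, Eqv (pm τ₁ v) v → Eqv (pm τ₂ v) v →
    Eqv v 0 ∨ Eqv v (unit5 4) := by decide +kernel

theorem evenFour_of_square : ∀ v : V5,
    (Eqv (pm τ₃ v + v) 0 ∨ Eqv (pm τ₃ v + v) (unit5 4)) → EvenFour v := by decide +kernel

theorem comm_even : ∀ σ : Equiv.Perm (Fin 5), IsV σ → ∀ v : V5, EvenFour v →
    EvenFour (unit5 0 + v + pm σ (unit5 0 + v)) := by decide +kernel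

theorem comm_ne : ∀ σ : Equiv.Perm (Fin 5), IsV σ → ∀ v : V5, EvenFour v →
    (Eqv (unit5 0 + v + pm σ (unit5 0 + v)) 0 ∨
      Eqv (unit5 0 + v + pm σ (unit5 0 + v)) (unit5 4)) → σ = 1 := by decide +kernel

theorem evenFour_even_fix : ∀ σ : Equiv.Perm (Fin 5), IsV σ → ∀ v : V5, EvenFour v →
    (Eqv (pm σ v) v ∨ Eqv (pm σ v) (v + unit5 4)) := by decide +kernel

/-- The pair used for the central involution of the second kind. -/
def pair34 : V5 := unit5 3 + unit5 4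

theorem pair_centralizer : ∀ σ : Equiv.Perm (Fin 5), Equiv.Perm.sign σ = 1 →
    (∀ i, Eqv (pm σ (unit5 i)) (unit5 i) ∨ Eqv (pm σ (unit5 i)) (unit5 i + pair34)) →
    Eqv (pm σ pair34) pair34 → σ = 1 := by decide +kernel

theorem triangle : ∀ v : V5, ¬ Eqv v 0 → ¬ Eqv v pair34 → cls v = false →
    cls (v + pair34) = false → ∀ σ : Equiv.Perm (Fin 5), Equiv.Perm.sign σ = 1 →
    Eqv (pm σ v) v → Eqv (pm σ pair34) pair34 → σ = 1 := by decide +kernel

theorem pair_two_classes : cls (unit5 0 + pair34) = false ∧ cls (unit5 3) = true ∧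
    cls (unit5 3 + pair34) = true ∧
    ¬ Eqv (unit5 3) 0 ∧ ¬ Eqv (unit5 3 + pair34) 0 ∧
    ¬ Eqv (unit5 0 + pair34) 0 ∧ ¬ Eqv (unit5 0) 0 ∧ ¬ Eqv (unit5 0) pair34 ∧
    ¬ Eqv (unit5 3) pair34 ∧ ¬ Eqv pair34 0 ∧ cls pair34 = false := by decide +kernel

theorem eqv_refl : ∀ v : V5, Eqv v v := fun v => Or.inl rfl

theorem vec_add_self : ∀ v : V5, v + v = 0 := by decide +kernel

theorem unit0_ne : ¬ Eqv (unit5 0) 0 ∧ ¬ Eqv (unit5 0) (unit5 4) := by decide +kernel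

theorem zmod2_cases : ∀ a : ZMod 2, a = 0 ∨ a = 1 := by decide +kernel

end CfsgLib.StrongTwoClasses
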