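import Mathlib
import Cfsg.Agent.Lib.StrongTwoClasses.Coords

/-!
# Facts on the alternating group of degree five
-/

set_option autoImplicit false

namespace CfsgLib.StrongTwoClasses

open Equiv

/-- The four-group as a subgroup of permutations. -/
def vPerm : Subgroup (Perm (Fin 5)) where
  carrier := {σ | IsV σ}
  mul_mem' {a b} ha hb := by
    revert a b
    decide +kernel
  one_mem' := by decide +kernel
  inv_mem' {a} ha := by
    revert a
    decide +kernel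

/-- The four-group as a subgroup of the alternating group. -/
def vAlt : Subgroup (alternatingGroup (Fin 5)) := vPerm.comap (alternatingGroup (Fin 5)).subtype

theorem card_isV : Fintype.card {σ : Perm (Fin 5) // IsV σ} = 4 := by decide +kernel

theorem card_vAlt : Nat.card vAlt = 4 := by
  rw [← card_isV, ← Nat.card_eq_fintype_card]
  exact Nat.card_congr
    { toFun := fun x => ⟨((x : alternatingGroup (Fin 5)) : Perm (Fin 5)), x.2⟩
      invFun := fun x => ⟨⟨x.1, Equiv.Perm.mem_alternatingGroup.2 x.2.2.2⟩, x.2⟩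
      left_inv := fun x => rfl
      right_inv := fun x => rfl }

/-- A five-cycle. -/
def five : Perm (Fin 5) := finRotate 5

theorem five_spec : Perm.sign five = 1 ∧ five ^ 5 = 1 ∧ five ≠ 1 ∧ five 4 ≠ 4 := by decide +kernel

theorem stab_gen : ∀ c : Perm (Fin 5), Perm.sign c = 1 → c 4 = 4 → ¬ IsV c →
    ∀ τ : Perm (Fin 5), Perm.sign τ = 1 → τ 4 = 4 →
      ∃ v : Perm (Fin 5), IsV v ∧ (τ = v ∨ τ = v * c ∨ τ = v * c * c) := by decide +kernel

/-- A four-group around another point. -/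
def IsVAt (j : Fin 5) (σ : Perm (Fin 5)) : Prop :=
  σ j = j ∧ σ * σ = 1 ∧ Perm.sign σ = 1

instance (j : Fin 5) (σ : Perm (Fin 5)) : Decidable (IsVAt j σ) :=
  inferInstanceAs (Decidable (_ ∧ _ ∧ _))

theorem two_fours : ∀ j : Fin 5, j ≠ 4 → ∃ a b w : Perm (Fin 5), IsVAt j a ∧ IsV b ∧ IsVAt j w ∧
    (a * b * w) 4 = 4 ∧ Perm.sign (a * b * w) = 1 ∧ ¬ IsV (a * b * w) := by
  intro j hj
  fin_cases j
  · exact ⟨swap 1 2 * swap 3 4, swap 0 1 * swap 2 3, swap 1 3 * swap 2 4, by decide +kernel⟩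
  · exact ⟨swap 0 2 * swap 3 4, swap 0 1 * swap 2 3, swap 0 3 * swap 2 4, by decide +kernel⟩
  · exact ⟨swap 0 1 * swap 3 4, swap 0 2 * swap 1 3, swap 0 3 * swap 1 4, by decide +kernel⟩
  · exact ⟨swap 0 1 * swap 2 4, swap 0 2 * swap 1 3, swap 0 4 * swap 1 2, by decide +kernel⟩
  · exact absurd rfl hj

theorem vAt_conj : ∀ (j : Fin 5) (σ a : Perm (Fin 5)), Perm.sign σ = 1 → σ 4 = j → IsVAt j a →
    IsV (σ⁻¹ * a * σ) := by
  intro j σ a hs hj ⟨h1, h2, h3⟩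
  refine ⟨?_, ?_, ?_⟩
  · rw [Perm.mul_apply, Perm.mul_apply, hj, h1, ← hj]
    exact σ.symm_apply_apply 4
  · calc σ⁻¹ * a * σ * (σ⁻¹ * a * σ) = σ⁻¹ * (a * a) * σ := by group
      _ = 1 := by rw [h2]; group
  · rw [map_mul, map_mul, map_inv, h3, hs]; decide

theorem stab_trans : ∀ i j : Fin 5, i ≠ 4 → j ≠ 4 →
    ∃ ρ : Perm (Fin 5), Perm.sign ρ = 1 ∧ ρ 4 = 4 ∧ ρ i = j := by decide +kernel

set_option synthInstance.maxSize 2048 in
set_option synthInstance.maxHeartbeats 200000 in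
theorem v_conj : ∀ a : Perm (Fin 5), IsV a → a ≠ 1 → ∀ b : Perm (Fin 5), IsV b → b ≠ 1 →
    ∃ ρ : Perm (Fin 5), Perm.sign ρ = 1 ∧ ρ 4 = 4 ∧ ρ * a * ρ⁻¹ = b := by decide +kernel

set_option synthInstance.maxSize 2048 in
set_option synthInstance.maxHeartbeats 200000 in
theorem v_gen : ∀ a : Perm (Fin 5), IsV a → a ≠ 1 → ∃ ρ : Perm (Fin 5),
    Perm.sign ρ = 1 ∧ ρ 4 = 4 ∧
      ∀ v : Perm (Fin 5), IsV v →
        v = 1 ∨ v = a ∨ v = ρ * a * ρ⁻¹ ∨ v = a * (ρ * a * ρ⁻¹) := by decide +kernel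

theorem move_conj : ∀ a : Perm (Fin 5), IsV a → a ≠ 1 → ∃ ρ : Perm (Fin 5),
    Perm.sign ρ = 1 ∧ (ρ * a * ρ⁻¹) 4 ≠ 4 := by decide +kernel

theorem fixed_small₁ : ∀ v : V5, Eqv (pm τ₁ v) v →
    Eqv v 0 ∨ Eqv v (unit5 0 + unit5 1) ∨ Eqv v (unit5 4) ∨
      Eqv v (unit5 0 + unit5 1 + unit5 4) := by decide +kernel

theorem fixed_small₂ : ∀ v : V5, Eqv (pm τ₂ v) v →
    Eqv v 0 ∨ Eqv v (unit5 0 + unit5 2) ∨ Eqv v (unit5 4) ∨
      Eqv v (unit5 0 + unit5 2 + unit5 4) := by decide +kernel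

theorem fixed_small₃ : ∀ v : V5, Eqv (pm τ₃ v) v →
    Eqv v 0 ∨ Eqv v (unit5 0 + unit5 3) ∨ Eqv v (unit5 4) ∨
      Eqv v (unit5 0 + unit5 3 + unit5 4) := by decide +kernel

theorem fixed_small (σ : Perm (Fin 5)) (hσ : IsV σ) (hne : σ ≠ 1) : ∃ p q : V5, ∀ v : V5,
    Eqv (pm σ v) v → Eqv v 0 ∨ Eqv v p ∨ Eqv v q ∨ Eqv v (p + q) := by
  rcases isV_cases σ hσ with rfl | rfl | rfl | rfl
  · exact absurd rfl hne
  · exact ⟨_, _, fixed_small₁⟩
  · exact ⟨_, _, fixed_small₂⟩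
  · exact ⟨_, _, fixed_small₃⟩

theorem one5_ne : one5 ≠ (0 : V5) := by decide +kernel

end CfsgLib.StrongTwoClasses
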