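import Mathlib
import Cfsg.Agent.Lib.StrongTwoClasses.Coords
import Cfsg.Agent.Lib.StrongTwoClasses.Tools

/-!
# An elementary abelian group of order sixteen with five distinguished points
-/

set_option autoImplicit false
set_option linter.style.haveILetI false
set_option linter.unusedSectionVars false

namespace CfsgLib.StrongTwoClasses

open Cfsg Subgroup CfsgLib.Base

universe u

/-- The configuration. -/
structure Frame (G : Type u) [Group G] where
  A : Subgroup G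
  S : Sylow 2 G
  card_S : Nat.card (S : Subgroup G) = 64
  elem : IsElementaryAbelian 2 A
  card_A : Nat.card A = 16
  le_S : A ≤ (S : Subgroup G)
  S_le : (S : Subgroup G) ≤ normalizer (A : Set G)
  e : Multiplicative V5 →* G
  e_range : e.range = A
  e_eq_one : ∀ v, e (Multiplicative.ofAdd v) = 1 → Eqv v 0
  e_one5 : e (Multiplicative.ofAdd one5) = 1
  act : ∀ n ∈ normalizer (A : Set G), ∃ σ : Equiv.Perm (Fin 5), Equiv.Perm.sign σ = 1 ∧
    ∀ v, n * e (Multiplicative.ofAdd v) * n⁻¹ = e (Multiplicative.ofAdd (pm σ v))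
  lift : ∀ σ : Equiv.Perm (Fin 5), Equiv.Perm.sign σ = 1 → σ 4 = 4 →
    ∃ n ∈ normalizer (A : Set G), n ∈ normalizer ((S : Subgroup G) : Set G) ∧
      ∀ v, n * e (Multiplicative.ofAdd v) * n⁻¹ = e (Multiplicative.ofAdd (pm σ v))
  lift_all : ∀ σ : Equiv.Perm (Fin 5), Equiv.Perm.sign σ = 1 →
    ∃ n ∈ normalizer (A : Set G),
      ∀ v, n * e (Multiplicative.ofAdd v) * n⁻¹ = e (Multiplicative.ofAdd (pm σ v))
  S_act : ∀ s ∈ (S : Subgroup G), ∃ σ : Equiv.Perm (Fin 5), IsV σ ∧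
    ∀ v, s * e (Multiplicative.ofAdd v) * s⁻¹ = e (Multiplicative.ofAdd (pm σ v))
  S_faithful : ∀ s ∈ (S : Subgroup G), (∀ a ∈ A, s * a * s⁻¹ = a) → s ∈ A
  inv_lift : ∀ σ : Equiv.Perm (Fin 5), IsV σ → ∃ t ∈ (S : Subgroup G), t * t = 1 ∧
    ∀ v, t * e (Multiplicative.ofAdd v) * t⁻¹ = e (Multiplicative.ofAdd (pm σ v))
  conj_cls : ∀ (v w : V5) (g : G),
    g * e (Multiplicative.ofAdd v) * g⁻¹ = e (Multiplicative.ofAdd w) →
      ¬ Eqv v 0 → cls v = cls w
  closed : ClosedTwo A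

namespace Frame

variable {G : Type u} [Group G] (F : Frame G)

/-- The element of a vector. -/
def E (v : V5) : G := F.e (Multiplicative.ofAdd v)

/-- `n` acts on the vectors as `σ`. -/
def Acts (n : G) (σ : Equiv.Perm (Fin 5)) : Prop := ∀ v, n * F.E v * n⁻¹ = F.E (pm σ v)

theorem E_zero : F.E 0 = 1 := map_one F.e

theorem E_add (v w : V5) : F.E (v + w) = F.E v * F.E w := map_mul F.e _ _

theorem E_mem (v : V5) : F.E v ∈ F.A := F.e_range ▸ ⟨_, rfl⟩

theorem exists_E {a : G} (ha : a ∈ F.A) : ∃ v, F.E v = a := by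
  rw [← F.e_range] at ha
  obtain ⟨m, hm⟩ := ha
  exact ⟨Multiplicative.toAdd m, hm⟩

theorem E_eqv {v w : V5} (h : Eqv v w) : F.E v = F.E w := by
  rcases h with rfl | rfl
  · rfl
  · rw [F.E_add, show F.E one5 = 1 from F.e_one5, mul_one]

theorem E_inj {v w : V5} (h : F.E v = F.E w) : Eqv v w := by
  have h2 : F.E (v + w) = 1 := by
    rw [F.E_add, h, ← F.E_add, vec_add_self, F.E_zero]
  rcases F.e_eq_one _ h2 with e | e
  · left
    calc v = v + (w + w) := by rw [vec_add_self, add_zero]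
      _ = w := by rw [← add_assoc, e, zero_add]
  · right
    calc v = v + (w + w) := by rw [vec_add_self, add_zero]
      _ = w + one5 := by rw [← add_assoc, e, zero_add, add_comm]

theorem E_ne_one {v : V5} (h : ¬ Eqv v 0) : F.E v ≠ 1 := fun e => h (F.e_eq_one v e)

theorem E_sq (v : V5) : F.E v * F.E v = 1 := by rw [← F.E_add, vec_add_self, F.E_zero]

theorem acts_one_of_centralizes {n : G} {σ : Equiv.Perm (Fin 5)} (h : F.Acts n σ)
    (hc : ∀ a ∈ F.A, n * a * n⁻¹ = a) : σ = 1 :=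
  eq_one_of_fix_units σ fun i => F.E_inj ((h (unit5 i)).symm.trans (hc _ (F.E_mem _)))

theorem centralizes_of_acts_one {n : G} (h : F.Acts n 1) : ∀ a ∈ F.A, n * a * n⁻¹ = a := by
  intro a ha
  obtain ⟨v, rfl⟩ := F.exists_E ha
  exact h v

theorem acts_mul {n m : G} {σ τ : Equiv.Perm (Fin 5)} (h : F.Acts n σ) (h' : F.Acts m τ) :
    F.Acts (n * m) (σ * τ) := fun v => by
  rw [← pm_pm, ← h, ← h']; group

theorem acts_inv {n : G} {σ : Equiv.Perm (Fin 5)} (h : F.Acts n σ) : F.Acts n⁻¹ σ⁻¹ := fun v => by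
  have := h (pm σ⁻¹ v)
  rw [pm_pm, mul_inv_cancel, pm_one] at this
  rw [← this]; group

theorem mem_A_of_acts_one {s : G} (hs : s ∈ (F.S : Subgroup G)) (h : F.Acts s 1) : s ∈ F.A :=
  F.S_faithful s hs (F.centralizes_of_acts_one h)

theorem acts_of_mem_A {a : G} (ha : a ∈ F.A) : F.Acts a 1 := fun v => by
  obtain ⟨w, rfl⟩ := F.exists_E ha
  rw [pm_one, ← F.E_add, add_comm, F.E_add, mul_assoc, mul_inv_cancel, mul_one]

theorem acts_unique {n : G} {σ τ : Equiv.Perm (Fin 5)} (h : F.Acts n σ) (h' : F.Acts n τ) :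
    σ = τ := by
  have h1 := F.acts_mul (F.acts_inv h) h'
  rw [inv_mul_cancel] at h1
  have := F.acts_one_of_centralizes h1 (fun a _ => by group)
  exact inv_mul_eq_one.1 this

variable [Finite G]

/-- A 2-group containing `A` normalises it. -/
theorem normalizes {T : Subgroup G} (hT : IsPGroup 2 T) (hAT : F.A ≤ T) :
    T ≤ normalizer (F.A : Set G) := fun t ht =>
  mem_normalizer_of_forall fun a ha =>
    F.closed T hT hAT a ha t (mul_mem (mul_mem ht (hAT ha)) (inv_mem ht))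

/-- Some conjugate of a 2-group containing `A` lies in `S`, by an element of `N(A)`. -/
theorem exists_conj_S {T : Subgroup G} (hT : IsPGroup 2 T) (hAT : F.A ≤ T) :
    ∃ k ∈ normalizer (F.A : Set G), ∀ t ∈ T, k * t * k⁻¹ ∈ (F.S : Subgroup G) := by
  haveI : Fact (Nat.Prime 2) := ⟨Nat.prime_two⟩
  obtain ⟨R, hR⟩ := hT.exists_le_sylow
  obtain ⟨k, hk⟩ := MulAction.exists_smul_eq G R F.S
  have hin : ∀ t ∈ T, k * t * k⁻¹ ∈ (F.S : Subgroup G) := by
    intro t ht
    rw [← hk, CfsgLib.Transfer.mem_coe_smul_sylow_iff,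
      show k⁻¹ * (k * t * k⁻¹) * k = t by group]
    exact hR ht
  refine ⟨k, mem_normalizer_of_forall fun a ha => ?_, hin⟩
  exact F.closed _ F.S.2 F.le_S a ha k (hin a (hAT ha))

/-- A 2-group containing and centralising `A` is `A`. -/
theorem le_of_centralizes {T : Subgroup G} (hT : IsPGroup 2 T) (hAT : F.A ≤ T)
    (hc : ∀ t ∈ T, ∀ a ∈ F.A, t * a * t⁻¹ = a) : T ≤ F.A := by
  intro t ht
  obtain ⟨k, hk, hin⟩ := F.exists_conj_S hT hAT
  have h1 : k * t * k⁻¹ ∈ F.A := F.S_faithful _ (hin t ht) fun a ha => by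
    have ha' : k⁻¹ * a * k ∈ F.A := by simpa using (mem_normalizer_iff.1 (inv_mem hk) a).1 ha
    calc k * t * k⁻¹ * a * (k * t * k⁻¹)⁻¹ = k * (t * (k⁻¹ * a * k) * t⁻¹) * k⁻¹ := by group
      _ = a := by rw [hc t ht _ ha']; group
  exact (mem_normalizer_iff.1 hk t).2 h1

theorem isPGroup_A : IsPGroup 2 F.A :=
  fun x => ⟨1, Subtype.ext (by simpa using F.elem.2 x x.2)⟩

theorem le_centralizer {a : G} (ha : a ∈ F.A) : F.A ≤ centralizer ({a} : Set G) := fun b hb => by
  haveI := F.elem.1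
  exact mem_centralizer_singleton_iff.2
    (congrArg Subtype.val (mul_comm' (⟨b, hb⟩ : F.A) ⟨a, ha⟩))

theorem le_centralizer_set {K : Subgroup G} (hK : K ≤ F.A) :
    F.A ≤ centralizer (K : Set G) := fun b hb =>
  mem_centralizer_iff.2 fun a ha =>
    (mem_centralizer_singleton_iff.1 (F.le_centralizer (hK ha) hb)).symm

/-- If all elements of `K ∩ N(A)` centralise `A`, then `A` is a Sylow subgroup of `K`. -/
theorem sylow_of_centralizes {K : Subgroup G} (hAK : F.A ≤ K)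
    (hc : ∀ n ∈ K, n ∈ normalizer (F.A : Set G) → ∀ a ∈ F.A, n * a * n⁻¹ = a) :
    ¬ 2 ∣ F.A.relIndex K := by
  obtain ⟨U, hAU, hUK, hU, hmax⟩ := exists_twoGroup_ge F.isPGroup_A hAK
  have hUA : U ≤ F.A := F.le_of_centralizes hU hAU fun t ht =>
    hc t (hUK ht) (F.normalizes hU hAU ht)
  rwa [le_antisymm hAU hUA]

end Frame

end CfsgLib.StrongTwoClasses
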