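import Mathlib
import Cfsg.Agent.Lib.StrongTwoClasses.AltFive
import Cfsg.Agent.Lib.StrongTwoClasses.Frame

/-!
# Construction of the configuration from the quotient `A₅`
-/

set_option autoImplicit false
set_option linter.style.haveILetI false
set_option linter.unusedSectionVars false
set_option maxHeartbeats 800000

open scoped Pointwise

namespace CfsgLib.StrongTwoClasses

open Cfsg Subgroup CfsgLib.Base

universe u

variable {G : Type u} [Group G] [Finite G]

/-- An automorphism of order five of a group of order sixteen with a nontrivial invariant proper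
subgroup is trivial. -/
theorem five_lemma {A : Subgroup G} (hA : IsElementaryAbelian 2 A) (hcard : Nat.card A = 16)
    {n : G} (hn : n ∈ normalizer (A : Set G)) (hn5 : ∀ a ∈ A, n ^ 5 * a * (n ^ 5)⁻¹ = a)
    {Y : Subgroup G} (hYA : Y ≤ A) (hY1 : Y ≠ ⊥) (hY : Y ≠ A)
    (hnY : n ∈ normalizer (Y : Set G)) : ∀ a ∈ A, n * a * n⁻¹ = a := by
  classical
  haveI : Fact (Nat.Prime 5) := ⟨by norm_num⟩
  haveI : Fact (Nat.Prime 2) := ⟨Nat.prime_two⟩
  have key : ∀ Z : Subgroup G, Z ≤ A → n ∈ normalizer (Z : Set G) →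
      Nat.card Z ≡ Nat.card ↥(Z ⊓ centralizer ({n} : Set G)) [MOD 5] := by
    intro Z hZA hnZ
    let f : Equiv.Perm Z :=
      { toFun := fun z => ⟨n * z * n⁻¹, (mem_normalizer_iff.1 hnZ z).1 z.2⟩
        invFun := fun z => ⟨n⁻¹ * z * n, by
          have := (mem_normalizer_iff.1 (inv_mem hnZ) z).1 z.2
          rwa [inv_inv] at this⟩
        left_inv := fun z => Subtype.ext (by simp [mul_assoc])
        right_inv := fun z => Subtype.ext (by simp [mul_assoc]) }
    have hf : ∀ z : Z, (f z : G) = n * z * n⁻¹ := fun z => rfl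
    have hpow : ∀ (k : ℕ) (z : Z), ((f ^ k) z : G) = n ^ k * z * (n ^ k)⁻¹ := by
      intro k
      induction k with
      | zero => intro z; simp
      | succ k ih => intro z; rw [pow_succ', Equiv.Perm.mul_apply, hf, ih, pow_succ']; group
    have hf5 : f ^ 5 = 1 := Equiv.Perm.ext fun z => Subtype.ext (by
      rw [hpow, hn5 _ (hZA z.2)]; rfl)
    have hP : IsPGroup 5 (zpowers f) := by
      refine IsPGroup.of_card_dvd_pow (n := 1) ?_
      rw [pow_one, Nat.card_zpowers]
      exact orderOf_dvd_of_pow_eq_one hf5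
    refine (hP.card_modEq_card_fixedPoints Z).trans ?_
    show _ % 5 = _ % 5
    congr 1
    refine Nat.card_congr
      { toFun := fun z => ⟨z.1, z.1.2, mem_centralizer_singleton_iff.2 (by
          have h := congrArg Subtype.val (z.2 ⟨f, mem_zpowers f⟩)
          change (f z.1 : G) = z.1 at h
          rw [hf, mul_inv_eq_iff_eq_mul] at h
          exact h.symm)⟩
        invFun := fun z => ⟨⟨z, z.2.1⟩, fun g => ?_⟩
        left_inv := fun z => rfl
        right_inv := fun z => rfl }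
    obtain ⟨g, hg⟩ := g
    obtain ⟨k, rfl⟩ := mem_zpowers_iff.1 hg
    show (f ^ k) ⟨z, z.2.1⟩ = _
    refine Equiv.Perm.zpow_apply_eq_self_of_apply_eq_self (Subtype.ext ?_) k
    rw [hf, mul_inv_eq_iff_eq_mul]
    exact (mem_centralizer_singleton_iff.1 z.2.2).symm
  have hA2 : IsPGroup 2 A := fun x => ⟨1, Subtype.ext (by simpa using hA.2 x x.2)⟩
  have hpow : ∀ Z : Subgroup G, Z ≤ A → Nat.card Z ∈ ({1, 2, 4, 8, 16} : Finset ℕ) := by
    intro Z hZ
    have h := card_dvd_of_le hZ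
    rw [hcard] at h
    have : Nat.card Z ∈ Nat.divisors 16 := Nat.mem_divisors.2 ⟨h, by norm_num⟩
    revert this
    generalize Nat.card Z = m
    intro this
    fin_cases this <;> simp
  have hY1' : Nat.card Y ≠ 1 := fun h => hY1 ((Subgroup.eq_bot_iff_card Y).2 h)
  have hY16 : Nat.card Y ≠ 16 := fun h => hY (eq_of_le_of_card_ge hYA (by omega))
  have k1 := key Y hYA hnY
  have k2 := key A le_rfl hn
  have d1 := hpow Y hYA
  have d2 := hpow _ (inf_le_left.trans hYA : Y ⊓ centralizer ({n} : Set G) ≤ A)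
  have d3 := hpow _ (inf_le_left : A ⊓ centralizer ({n} : Set G) ≤ A)
  have l1 : Nat.card ↥(Y ⊓ centralizer ({n} : Set G)) ≤ Nat.card Y := card_le_of_le inf_le_left
  have l2 : Nat.card ↥(Y ⊓ centralizer ({n} : Set G)) ≤
      Nat.card ↥(A ⊓ centralizer ({n} : Set G)) := card_le_of_le (inf_le_inf_right _ hYA)
  simp only [Finset.mem_insert, Finset.mem_singleton] at d1 d2 d3
  rw [hcard] at k2
  rw [Nat.ModEq] at k1 k2
  have hfull : Nat.card ↥(A ⊓ centralizer ({n} : Set G)) = 16 := by omega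
  intro a ha
  have heq : A ⊓ centralizer ({n} : Set G) = A :=
    eq_of_le_of_card_ge inf_le_left (by omega)
  rw [mul_inv_eq_iff_eq_mul]
  exact (mem_centralizer_singleton_iff.1 (heq.ge ha).2).symm

theorem exists_frame (hcZ : ∀ T : Sylow 2 G, ∀ A : Subgroup G, Nat.card A = 16 →
      A ≤ (T : Subgroup G) → ¬ (T : Subgroup G) ≤ centralizer (A : Set G))
    (S₀ : Sylow 2 G) (hS₀ : Nat.card (S₀ : Subgroup G) = 64)
    (h3 : Nat.card {c : ConjClasses G // ∃ x ∈ c.carrier, orderOf x = 2} = 3)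
    (A : Subgroup G) (hA : IsElementaryAbelian 2 A) (hA16 : Nat.card A = 16)
    (π : ↥(normalizer (A : Set G)) →* alternatingGroup (Fin 5)) (hπ : Function.Surjective π)
    (hker : π.ker = A.subgroupOf (normalizer (A : Set G)) ⊔ oddCore ↥(normalizer (A : Set G))) :
    ∃ F : Frame G, F.A = A := by
  classical
  haveI : Fact (Nat.Prime 2) := ⟨Nat.prime_two⟩
  haveI := hA.1
  have sqA : ∀ {a : G}, a ∈ A → a * a = 1 := fun ha => by rw [← sq]; exact hA.2 _ ha
  have invA : ∀ {a : G}, a ∈ A → a⁻¹ = a := fun ha => inv_eq_of_mul_eq_one_right (sqA ha)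
  have commA : ∀ {a b : G}, a ∈ A → b ∈ A → a * b = b * a := fun ha hb =>
    congrArg Subtype.val (mul_comm' (⟨_, ha⟩ : A) ⟨_, hb⟩)
  set A' := A.subgroupOf (normalizer (A : Set G)) with hA'
  have hAN : A ≤ (normalizer (A : Set G)) := Subgroup.le_normalizer
  haveI hA'n : A'.Normal := normal_in_normalizer
  have hA'16 : Nat.card A' = 16 := by rw [← hA16]; exact Nat.card_congr (subgroupOfEquivOfLe hAN).toEquiv
  have hA'2 : IsPGroup 2 A' := IsPGroup.of_card (n := 4) (by rw [hA'16]; norm_num)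
  have hdis : A' ⊓ oddCore (normalizer (A : Set G)) = ⊥ :=
    inf_eq_bot_of_isPGroup_of_coprime hA'2 (pPrimeCore_coprime 2 (normalizer (A : Set G)))
  have hkfix : ∀ n : (normalizer (A : Set G)), π n = 1 → ∀ a ∈ A, (n : G) * a * (n : G)⁻¹ = a := by
    intro n hn a ha
    have hmem : n ∈ A' ⊔ oddCore (normalizer (A : Set G)) := hker ▸ MonoidHom.mem_ker.2 hn
    obtain ⟨a', ha', o, ho, rfl⟩ := mem_sup_of_normal_left.1 hmem
    have hoa : o * ⟨a, hAN ha⟩ = ⟨a, hAN ha⟩ * o :=
      (commute_of_normal_of_disjoint A' (oddCore (normalizer (A : Set G))) hA'n (pPrimeCore_normal 2 (normalizer (A : Set G)))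
        (disjoint_iff.2 hdis) ⟨a, hAN ha⟩ o ha ho).eq.symm
    rw [mul_inv_eq_iff_eq_mul]
    show (a' : G) * o * a = a * ((a' : G) * o)
    rw [mul_assoc, show (o : G) * a = a * o from congrArg Subtype.val hoa, ← mul_assoc,
      commA (mem_subgroupOf.1 ha') ha, mul_assoc]
  have hcardker : Nat.card π.ker = 16 * Nat.card (oddCore (normalizer (A : Set G))) := by
    rw [hker, CfsgLib.Coprime.card_sup_of_inf_eq_bot
      ((normalizer_eq_top (H := oddCore (normalizer (A : Set G)))).symm ▸ le_top) hdis, hA'16]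
  have hoddO : Odd (Nat.card (oddCore (normalizer (A : Set G)))) := odd_card_oddCore (normalizer (A : Set G))
  have hcardN : Nat.card (normalizer (A : Set G)) = 60 * (16 * Nat.card (oddCore (normalizer (A : Set G)))) := by
    rw [← hcardker, Subgroup.card_eq_card_quotient_mul_card_subgroup π.ker,
      Nat.card_congr (QuotientGroup.quotientKerEquivOfSurjective π hπ).toEquiv,
      nat_card_alternatingGroup, Nat.card_fin]
    rfl
  -- a Sylow subgroup over the four-group
  obtain ⟨S₁⟩ : Nonempty (Sylow 2 (normalizer (A : Set G))) := inferInstance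
  have hS₁c : Nat.card (S₁ : Subgroup (normalizer (A : Set G))) = 64 := by
    rw [S₁.card_eq_multiplicity, hcardN]
    have h2 : ¬ 2 ∣ 15 * Nat.card (oddCore (normalizer (A : Set G))) := by
      rw [← even_iff_two_dvd, Nat.not_even_iff_odd]; exact Odd.mul (by decide) hoddO
    rw [show 60 * (16 * Nat.card (oddCore (normalizer (A : Set G)))) = 2 ^ 6 * (15 * Nat.card (oddCore (normalizer (A : Set G)))) by ring,
      Nat.factorization_mul (by norm_num) (fun h => h2 (by rw [h]; exact dvd_zero 2)),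
      Finsupp.add_apply, Nat.factorization_eq_zero_of_not_dvd h2, Nat.Prime.factorization_pow Nat.prime_two]
    simp
  have hkA : ∀ T : Sylow 2 (normalizer (A : Set G)), π.ker ⊓ (T : Subgroup (normalizer (A : Set G))) = A' := by
    intro T
    have hle : A' ≤ π.ker ⊓ (T : Subgroup (normalizer (A : Set G))) :=
      le_inf (hker ▸ le_sup_left) (hA'2.le_sylow_of_normal T)
    refine (eq_of_le_of_card_ge hle ?_).symm
    obtain ⟨k, hk⟩ := IsPGroup.iff_card.1 (T.2.to_le (inf_le_right : π.ker ⊓ (T : Subgroup (normalizer (A : Set G))) ≤ T))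
    have hd : 2 ^ k ∣ 16 * Nat.card (oddCore (normalizer (A : Set G))) := hk ▸ hcardker ▸ card_dvd_of_le inf_le_left
    have hd' : 2 ^ k ∣ 16 :=
      Nat.Coprime.dvd_of_dvd_mul_right ((Nat.coprime_two_left.2 hoddO).pow_left k) hd
    rw [hk, hA'16]
    exact Nat.le_of_dvd (by norm_num) hd'
  have hmapc : ∀ T : Sylow 2 (normalizer (A : Set G)), Nat.card (T : Subgroup (normalizer (A : Set G))) = 64 →
      Nat.card ((T : Subgroup (normalizer (A : Set G))).map π) = 4 := by
    intro T hT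
    have h1 : π.ker.relIndex (T : Subgroup (normalizer (A : Set G))) = Nat.card ((T : Subgroup (normalizer (A : Set G))).map π) := by
      rw [← MonoidHom.comap_bot, relIndex_comap, relIndex_bot_left]
    have h2 : Nat.card ↥(π.ker ⊓ (T : Subgroup (normalizer (A : Set G)))) * π.ker.relIndex (T : Subgroup (normalizer (A : Set G))) =
        Nat.card (T : Subgroup (normalizer (A : Set G))) := by
      rw [← inf_relIndex_right, ← relIndex_bot_left, ← relIndex_bot_left,
        relIndex_mul_relIndex _ _ _ bot_le inf_le_right]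
    rw [hkA T, hA'16, h1, hT] at h2
    omega
  obtain ⟨g₀, hg₀⟩ : ∃ g, ((g • S₁ : Sylow 2 (normalizer (A : Set G))) : Subgroup (normalizer (A : Set G))).map π = vAlt := by
    have hV2 : IsPGroup 2 vAlt := IsPGroup.of_card (n := 2) (by rw [card_vAlt]; norm_num)
    have hidx : ¬ 2 ∣ vAlt.index := by
      have := vAlt.card_mul_index
      rw [card_vAlt, nat_card_alternatingGroup, Nat.card_fin,
        show Nat.factorial 5 / 2 = 4 * 15 from rfl] at this
      rw [Nat.eq_of_mul_eq_mul_left (by norm_num) this]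
      decide
    have hR2 : IsPGroup 2 ((S₁ : Subgroup (normalizer (A : Set G))).map π) := S₁.2.map π
    have hRidx : ¬ 2 ∣ ((S₁ : Subgroup (normalizer (A : Set G))).map π).index := fun h =>
      S₁.not_dvd_index (h.trans (index_map_dvd _ hπ))
    obtain ⟨σ, hσ⟩ := MulAction.exists_smul_eq (alternatingGroup (Fin 5))
      (hR2.toSylow hRidx) (hV2.toSylow hidx)
    obtain ⟨g, hg⟩ := hπ σ
    refine ⟨g, ?_⟩
    have e : (MulAut.conj σ • (S₁ : Subgroup (normalizer (A : Set G))).map π : Subgroup _) = vAlt :=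
      congrArg Sylow.toSubgroup hσ
    rw [← e, ← hg, Sylow.coe_subgroup_smul]
    ext x
    simp only [Subgroup.mem_map, CfsgLib.Coprime.mem_conj_smul]
    constructor
    · rintro ⟨y, hy, rfl⟩
      exact ⟨g⁻¹ * y * g, hy, by simp⟩
    · rintro ⟨y, hy, he⟩
      refine ⟨g * y * g⁻¹, by simpa [mul_assoc] using hy, ?_⟩
      simp only [map_mul, map_inv, he]; group
  set S₂ := g₀ • S₁ with hS₂
  have hS₂c : Nat.card (S₂ : Subgroup (normalizer (A : Set G))) = 64 := by
    rw [S₂.card_eq_multiplicity, ← S₁.card_eq_multiplicity, hS₁c]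
  have hSidx : ¬ 2 ∣ ((S₂ : Subgroup (normalizer (A : Set G))).map (normalizer (A : Set G)).subtype).index := by
    have h1 : Nat.card ↥((S₂ : Subgroup (normalizer (A : Set G))).map (normalizer (A : Set G)).subtype) = Nat.card (S₀ : Subgroup G) := by
      rw [card_map_subtype, hS₂c, hS₀]
    have h2 := ((S₂ : Subgroup (normalizer (A : Set G))).map (normalizer (A : Set G)).subtype).card_mul_index
    rw [← (S₀ : Subgroup G).card_mul_index, h1] at h2
    rw [Nat.eq_of_mul_eq_mul_left Nat.card_pos h2]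
    exact S₀.not_dvd_index
  let S : Sylow 2 G := (S₂.2.map (normalizer (A : Set G)).subtype).toSylow hSidx
  have hSmem : ∀ {s : G}, s ∈ (S : Subgroup G) ↔ ∃ s' : (normalizer (A : Set G)), s' ∈ (S₂ : Subgroup (normalizer (A : Set G))) ∧ (s' : G) = s :=
    Iff.rfl
  have hSN : (S : Subgroup G) ≤ (normalizer (A : Set G)) := map_subtype_le _
  have hS64 : Nat.card (S : Subgroup G) = 64 := (card_map_subtype _).trans hS₂c
  have hAS : A ≤ (S : Subgroup G) := fun a ha =>
    ⟨⟨a, hAN ha⟩, hA'2.le_sylow_of_normal S₂ ha, rfl⟩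
  have hSA : ∀ s : (normalizer (A : Set G)), (s : G) ∈ (S : Subgroup G) → π s = 1 → (s : G) ∈ A := by
    intro s hs h1
    obtain ⟨s', hs', e⟩ := hSmem.1 hs
    rw [Subtype.ext e] at hs'
    exact mem_subgroupOf.1 ((hkA S₂).le ⟨h1, hs'⟩)
  have hSV : ∀ s : (normalizer (A : Set G)), (s : G) ∈ (S : Subgroup G) → IsV (π s) := by
    intro s hs
    obtain ⟨s', hs', e⟩ := hSmem.1 hs
    rw [Subtype.ext e] at hs'
    exact (hg₀.le ⟨s, hs', rfl⟩ : π s ∈ vAlt)
  have hVS : ∀ v : alternatingGroup (Fin 5), IsV v → ∃ s : (normalizer (A : Set G)), (s : G) ∈ (S : Subgroup G) ∧ π s = v := by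
    intro v hv
    obtain ⟨s, hs, e⟩ := hg₀.ge (show v ∈ vAlt from hv)
    exact ⟨s, ⟨s, hs, rfl⟩, e⟩
  have lift : ∀ σ : Equiv.Perm (Fin 5), Equiv.Perm.sign σ = 1 →
      ∃ n : (normalizer (A : Set G)), (π n : Equiv.Perm (Fin 5)) = σ := fun σ hσ => by
    obtain ⟨n, hn⟩ := hπ ⟨σ, Equiv.Perm.mem_alternatingGroup.2 hσ⟩
    exact ⟨n, congrArg Subtype.val hn⟩
  have sgn : ∀ n : (normalizer (A : Set G)), Equiv.Perm.sign (π n : Equiv.Perm (Fin 5)) = 1 := fun n =>
    Equiv.Perm.mem_alternatingGroup.1 (π n).2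
  -- the action on `A` is faithful
  have hnN : ∀ n : (normalizer (A : Set G)), ∀ a ∈ A, (n : G) * a * (n : G)⁻¹ ∈ A := fun n a ha =>
    (mem_normalizer_iff.1 n.2 a).1 ha
  have hfaith : ∀ n : (normalizer (A : Set G)), (∀ a ∈ A, (n : G) * a * (n : G)⁻¹ = a) → π n = 1 := by
    intro n hn
    let C : Subgroup (normalizer (A : Set G)) :=
      { carrier := {m | ∀ a ∈ A, (m : G) * a * (m : G)⁻¹ = a}
        one_mem' := fun a _ => by simp
        mul_mem' := fun {m m'} hm hm' a ha => by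
          calc ((m * m' : (normalizer (A : Set G))) : G) * a * ((m * m' : (normalizer (A : Set G))) : G)⁻¹
              = (m : G) * ((m' : G) * a * (m' : G)⁻¹) * (m : G)⁻¹ := by push_cast; group
            _ = a := by rw [hm' a ha, hm a ha]
        inv_mem' := fun {m} hm a ha => by
          have h := hm a ha
          calc ((m⁻¹ : (normalizer (A : Set G))) : G) * a * ((m⁻¹ : (normalizer (A : Set G))) : G)⁻¹
              = (m : G)⁻¹ * ((m : G) * a * (m : G)⁻¹) * (m : G) := by rw [h]; push_cast; group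
            _ = a := by group }
    haveI hCn : C.Normal := ⟨fun m hm g a ha => by
      have ha' : (g : G)⁻¹ * a * (g : G) ∈ A := by simpa using hnN g⁻¹ a ha
      calc ((g * m * g⁻¹ : (normalizer (A : Set G))) : G) * a * ((g * m * g⁻¹ : (normalizer (A : Set G))) : G)⁻¹
          = (g : G) * ((m : G) * ((g : G)⁻¹ * a * (g : G)) * (m : G)⁻¹) * (g : G)⁻¹ := by
            push_cast; group
        _ = a := by rw [hm _ ha']; group⟩
    haveI := alternatingGroup.isSimpleGroup_five
    rcases (hCn.map π hπ).eq_bot_or_eq_top with h | h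
    · have : π n ∈ C.map π := mem_map_of_mem π hn
      rwa [h, mem_bot] at this
    · exfalso
      refine hcZ S A hA16 hAS fun s hs => mem_centralizer_iff.2 fun a ha => ?_
      obtain ⟨m, hm, e⟩ := h.ge (mem_top (π ⟨s, hSN hs⟩))
      have h1 := hkfix (⟨s, hSN hs⟩ * m⁻¹) (by rw [map_mul, map_inv, e, mul_inv_cancel])
      have h2 : s * a * s⁻¹ = a := by
        have := h1 a ha
        have hm' := hm a ha
        calc s * a * s⁻¹ = s * (m : G)⁻¹ * ((m : G) * a * (m : G)⁻¹) * (s * (m : G)⁻¹)⁻¹ := by group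
          _ = a := by rw [hm']; exact this
      exact (mul_inv_eq_iff_eq_mul.1 h2).symm
  -- the five-cycle has no invariant proper subgroup
  obtain ⟨h5s, h5p, h5ne, h54⟩ := five_spec
  have hfive : ∀ n : (normalizer (A : Set G)), (π n : Equiv.Perm (Fin 5)) = five → ∀ Y : Subgroup G, Y ≤ A → Y ≠ ⊥ →
      Y ≠ A → (n : G) ∈ normalizer (Y : Set G) → False := by
    intro n hn Y hYA hY1 hY hnY
    have hπ1 := hfaith n (five_lemma hA hA16 n.2 (fun a ha => by
      have := hkfix (n ^ 5) (Subtype.ext (by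
        rw [map_pow, SubmonoidClass.coe_pow, hn, h5p]; rfl)) a ha
      simpa using this) hYA hY1 hY hnY)
    exact h5ne (hn.symm.trans (congrArg Subtype.val hπ1))
  have hnotfixed : ∀ n : (normalizer (A : Set G)), (π n : Equiv.Perm (Fin 5)) = five → ∀ x ∈ A, x ≠ 1 →
      (n : G) * x * (n : G)⁻¹ ≠ x := by
    intro n hn x hx hx1 he
    refine hfive n hn (zpowers x) (zpowers_le.2 hx) (zpowers_ne_bot.2 hx1) (fun h => ?_) ?_
    · have := congrArg (fun K : Subgroup G => Nat.card K) h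
      simp only [Nat.card_zpowers, hA16] at this
      rw [orderOf_eq_prime (p := 2) (by rw [sq]; exact sqA hx) hx1] at this
      exact absurd this (by decide)
    · refine mem_normalizer_of_forall fun z hz => ?_
      obtain ⟨k, rfl⟩ := mem_zpowers_iff.1 hz
      rw [← conj_zpow, he]
      exact zpow_mem (mem_zpowers x) k
  -- stabilisers
  let St : G → Subgroup (normalizer (A : Set G)) := fun x => (centralizer ({x} : Set G)).subgroupOf (normalizer (A : Set G))
  have memSt : ∀ {x : G} {n : (normalizer (A : Set G))}, n ∈ St x ↔ (n : G) * x * (n : G)⁻¹ = x := by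
    intro x n
    rw [mem_subgroupOf, mem_centralizer_singleton_iff, mul_inv_eq_iff_eq_mul]
  have hstab : ∀ {x : G}, x ∈ A → ∀ n m : (normalizer (A : Set G)), π n = π m →
      (n : G) * x * (n : G)⁻¹ = (m : G) * x * (m : G)⁻¹ := by
    intro x hx n m h
    have h1 := hkfix (m⁻¹ * n) (by rw [map_mul, map_inv, h, inv_mul_cancel]) x hx
    calc (n : G) * x * (n : G)⁻¹
        = (m : G) * (((m⁻¹ * n : (normalizer (A : Set G))) : G) * x * ((m⁻¹ * n : (normalizer (A : Set G))) : G)⁻¹) * (m : G)⁻¹ := by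
          push_cast; group
      _ = _ := by rw [h1]
  let T : G → Set (Equiv.Perm (Fin 5)) := fun x =>
    {σ | ∃ n : (normalizer (A : Set G)), n ∈ St x ∧ (π n : Equiv.Perm (Fin 5)) = σ}
  have Tmul : ∀ {x : G} {a b}, a ∈ T x → b ∈ T x → a * b ∈ T x := by
    rintro x a b ⟨n, hn, rfl⟩ ⟨m, hm, rfl⟩
    exact ⟨n * m, mul_mem hn hm, by rw [map_mul]; rfl⟩
  have Tinv : ∀ {x : G} {a}, a ∈ T x → a⁻¹ ∈ T x := by
    rintro x a ⟨n, hn, rfl⟩
    exact ⟨n⁻¹, inv_mem hn, by rw [map_inv]; rfl⟩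
  have Tfix : ∀ {x : G}, x ∈ A → ∀ (n : (normalizer (A : Set G))), (π n : Equiv.Perm (Fin 5)) ∈ T x →
      (n : G) * x * (n : G)⁻¹ = x := by
    rintro x hx n ⟨m, hm, e⟩
    rw [hstab hx n m (Subtype.ext e.symm)]
    exact memSt.1 hm
  have hkey : ∀ {x : G}, x ∈ A → x ≠ 1 → (∀ v, IsV v → v ∈ T x) → ∀ σ ∈ T x, σ 4 = 4 := by
    intro x hx hx1 hVT σ hσ
    by_contra hj
    have hsσ : Equiv.Perm.sign σ = 1 := by obtain ⟨n, -, rfl⟩ := hσ; exact sgn n
    have hat : ∀ a, IsVAt (σ 4) a → a ∈ T x := by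
      intro a ha
      have := Tmul (Tmul hσ (hVT _ (vAt_conj _ σ a hsσ rfl ha))) (Tinv hσ)
      rwa [show σ * (σ⁻¹ * a * σ) * σ⁻¹ = a by group] at this
    obtain ⟨a, b, w, ha, hb, hw, hc4, hcs, hcV⟩ := two_fours (σ 4) hj
    have hcT : a * b * w ∈ T x := Tmul (Tmul (hat a ha) (hVT b hb)) (hat w hw)
    have hst : ∀ τ : Equiv.Perm (Fin 5), Equiv.Perm.sign τ = 1 → τ 4 = 4 → τ ∈ T x := by
      intro τ hτ hτ4
      obtain ⟨v, hv, e | e | e⟩ := stab_gen _ hcs hc4 hcV τ hτ hτ4 <;> rw [e]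
      · exact hVT v hv
      · exact Tmul (hVT v hv) hcT
      · exact Tmul (Tmul (hVT v hv) hcT) hcT
    obtain ⟨ρ, hρs, hρ4, hρ⟩ := stab_trans (σ 4) (five 4) hj h54
    have hρσ : ρ * σ ∈ T x := Tmul (hst ρ hρs hρ4) hσ
    have hrest : (ρ * σ)⁻¹ * five ∈ T x := hst _ (by
      rw [map_mul, map_inv, map_mul, hρs, hsσ, h5s]; decide) (by
        rw [Equiv.Perm.mul_apply, ← hρ, ← Equiv.Perm.mul_apply ρ σ]
        exact (ρ * σ).symm_apply_apply 4)
    have h5T : five ∈ T x := by
      have := Tmul hρσ hrest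
      rwa [mul_inv_cancel_left] at this
    obtain ⟨n, hn, e⟩ := h5T
    exact hnotfixed n e x hx hx1 (memSt.1 hn)
  -- a fixed point of the Sylow subgroup
  obtain ⟨y, hyA, hy1, hyS⟩ : ∃ y ∈ A, y ≠ 1 ∧ ∀ s ∈ (S : Subgroup G), s * y * s⁻¹ = y := by
    haveI : ((A.subgroupOf (S : Subgroup G)) : Subgroup (S : Subgroup G)).Normal :=
      normal_subgroupOf_of_le_normalizer hSN
    set AS := A.subgroupOf (S : Subgroup G) with hAS'
    letI : MulAction (S : Subgroup G) AS :=
      MulAction.compHom AS (MulAut.conjNormal : (S : Subgroup G) →* MulAut AS)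
    have hc : Nat.card AS = 16 := by
      rw [← hA16]; exact Nat.card_congr (subgroupOfEquivOfLe hAS).toEquiv
    have h1 : (1 : AS) ∈ MulAction.fixedPoints (S : Subgroup G) AS := fun s =>
      map_one (MulAut.conjNormal (H := AS) s)
    obtain ⟨b, hb, hb1⟩ := S.2.exists_fixed_point_of_prime_dvd_card_of_fixed_point AS
      (by rw [hc]; norm_num) h1
    refine ⟨((b : (S : Subgroup G)) : G), b.2, fun e => hb1 ?_, fun s hs => ?_⟩
    · exact (Subtype.ext (Subtype.ext e)).symm
    · exact congrArg (fun z : AS => ((z : (S : Subgroup G)) : G)) (hb ⟨s, hs⟩)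
  have hVT : ∀ v, IsV v → v ∈ T y := by
    intro v hv
    obtain ⟨s, hs, e⟩ := hVS ⟨v, Equiv.Perm.mem_alternatingGroup.2 hv.2.2⟩ hv
    exact ⟨s, memSt.2 (hyS _ hs), congrArg Subtype.val e⟩
  have hT4 := hkey hyA hy1 hVT
  -- representatives in `(normalizer (A : Set G))` normalising the Sylow subgroup
  have liftS : ∀ σ : Equiv.Perm (Fin 5), Equiv.Perm.sign σ = 1 → σ 4 = 4 →
      ∃ n : (normalizer (A : Set G)), (n : G) ∈ normalizer ((S : Subgroup G) : Set G) ∧
        (π n : Equiv.Perm (Fin 5)) = σ := by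
    intro σ hσ hσ4
    obtain ⟨n₀, hn₀⟩ := lift σ hσ
    set L := vAlt.comap π with hL
    have hS₂L : (S₂ : Subgroup (normalizer (A : Set G))) ≤ L := fun s hs => hg₀.le ⟨s, hs, rfl⟩
    have hV : ∀ v : alternatingGroup (Fin 5), IsV v → IsV ((σ⁻¹ : Equiv.Perm (Fin 5)) * v * σ) := by
      intro v hv
      exact vAt_conj 4 σ v hσ hσ4 hv
    have hsm : ((n₀ • S₂ : Sylow 2 (normalizer (A : Set G))) : Subgroup (normalizer (A : Set G))) ≤ L := by
      intro s hs
      have h1 : π (n₀⁻¹ * s * n₀) ∈ vAlt :=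
        hS₂L ((CfsgLib.Transfer.mem_coe_smul_sylow_iff).1 hs)
      show IsV (π s)
      have h2 : IsV ((π (n₀⁻¹ * s * n₀) : Equiv.Perm (Fin 5))) := h1
      have h3 : ((π (n₀⁻¹ * s * n₀) : Equiv.Perm (Fin 5))) = σ⁻¹ * (π s : Equiv.Perm (Fin 5)) * σ := by
        rw [map_mul, map_mul, map_inv, ← hn₀]; rfl
      rw [h3] at h2
      have h4 := vAt_conj 4 σ⁻¹ _ (by rw [map_inv, hσ]; decide)
        (by rw [Equiv.Perm.inv_eq_iff_eq, hσ4]) h2
      rwa [show σ⁻¹⁻¹ * (σ⁻¹ * (π s : Equiv.Perm (Fin 5)) * σ) * σ⁻¹ = π s by group] at h4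
    obtain ⟨k, hk, hke⟩ := CfsgLib.Transfer.exists_smul_eq_of_le (n₀ • S₂) S₂ hsm hS₂L
    rw [smul_smul] at hke
    have hkn : k * n₀ ∈ normalizer ((S₂ : Subgroup (normalizer (A : Set G))) : Set (normalizer (A : Set G))) := Sylow.smul_eq_iff_mem_normalizer.1 hke
    have hkV : IsV (π k : Equiv.Perm (Fin 5)) := hk
    obtain ⟨s, hs, hse⟩ := hVS (π k)⁻¹ (vAlt.inv_mem hk)
    refine ⟨s * (k * n₀), ?_, ?_⟩
    · refine mul_mem (Subgroup.le_normalizer hs) (mem_normalizer_of_forall fun x hx => ?_)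
      obtain ⟨x', hx', rfl⟩ := hSmem.1 hx
      exact ⟨(k * n₀) * x' * (k * n₀)⁻¹, (mem_normalizer_iff.1 hkn x').1 hx', rfl⟩
    · rw [map_mul, map_mul, hse, inv_mul_cancel_left, hn₀]
  -- involutions outside `A`
  have hout : (∀ s : (normalizer (A : Set G)), (s : G) ∈ (S : Subgroup G) → π s ≠ 1 →
      Nat.card ↥(A ⊓ centralizer ({(s : G)} : Set G)) ≤ 4) →
      ∀ x x' : (normalizer (A : Set G)), (x : G) ∈ (S : Subgroup G) → (x' : G) ∈ (S : Subgroup G) → π x ≠ 1 → π x' ≠ 1 →
        (x : G) * x = 1 → (x' : G) * x' = 1 → ∃ g : G, g * x * g⁻¹ = x' := by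
    intro hC4 x x' hx hx' h1 h1' hx2 hx2'
    obtain ⟨ρ, hρs, hρ4, hρ⟩ := v_conj _ (hSV x hx) (fun e => h1 (Subtype.ext e)) _ (hSV x' hx')
      (fun e => h1' (Subtype.ext e))
    obtain ⟨c, hcS, hc⟩ := liftS ρ hρs hρ4
    set x'' : (normalizer (A : Set G)) := c * x * c⁻¹ with hx''
    have hx''S : (x'' : G) ∈ (S : Subgroup G) := (mem_normalizer_iff.1 hcS _).1 hx
    have hπx'' : π x'' = π x' := Subtype.ext (by
      rw [hx'', map_mul, map_mul, map_inv]
      show (π c : Equiv.Perm (Fin 5)) * π x * (π c : Equiv.Perm (Fin 5))⁻¹ = _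
      rw [hc, hρ])
    set a : G := (x'' : G)⁻¹ * x' with ha
    have haA : a ∈ A := hSA (x''⁻¹ * x') (mul_mem (inv_mem hx''S) hx') (by
      rw [map_mul, map_inv, hπx'', inv_mul_cancel])
    have hx''2 : (x'' : G) * x'' = 1 := by
      calc (x'' : G) * x'' = (c : G) * ((x : G) * x) * (c : G)⁻¹ := by rw [hx'']; push_cast; group
        _ = 1 := by rw [hx2]; group
    have hxi : (x'' : G)⁻¹ = x'' := inv_eq_of_mul_eq_one_right hx''2
    have hax : (x' : G) = x'' * a := by rw [ha, mul_inv_cancel_left]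
    have hcomm : a ∈ A ⊓ centralizer ({(x'' : G)} : Set G) := by
      refine ⟨haA, mem_centralizer_singleton_iff.2 ?_⟩
      have h := hx2'
      rw [hax] at h
      calc a * x'' = (x'' : G)⁻¹ * ((x'' : G) * a * ((x'' : G) * a)) * a⁻¹ := by group
        _ = (x'' : G)⁻¹ * a⁻¹ := by rw [h, mul_one]
        _ = x'' * a := by rw [hxi, invA haA]
    let f : A →* A :=
      { toFun := fun b => ⟨(b : G) * ((x'' : G) * b * (x'' : G)⁻¹), mul_mem b.2 (hnN x'' b b.2)⟩
        map_one' := Subtype.ext (by simp)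
        map_mul' := fun b b' => Subtype.ext (by
          show (b : G) * b' * ((x'' : G) * ((b : G) * b') * (x'' : G)⁻¹) =
            (b : G) * ((x'' : G) * b * (x'' : G)⁻¹) * ((b' : G) * ((x'' : G) * b' * (x'' : G)⁻¹))
          have := commA b'.2 (hnN x'' b b.2)
          calc _ = (b : G) * ((b' : G) * ((x'' : G) * b * (x'' : G)⁻¹)) *
                ((x'' : G) * b' * (x'' : G)⁻¹) := by group
            _ = _ := by rw [this]; group) }
    set D := A ⊓ centralizer ({(x'' : G)} : Set G) with hD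
    have hkerf : f.ker = D.subgroupOf A := by
      ext b
      rw [MonoidHom.mem_ker, mem_subgroupOf, mem_inf, mem_centralizer_singleton_iff]
      refine ⟨fun h => ⟨b.2, ?_⟩, fun h => Subtype.ext ?_⟩
      · have h' : (b : G) * ((x'' : G) * b * (x'' : G)⁻¹) = 1 := congrArg Subtype.val h
        have := eq_inv_of_mul_eq_one_right h'
        rw [invA b.2, mul_inv_eq_iff_eq_mul] at this
        exact this.symm
      · show (b : G) * ((x'' : G) * b * (x'' : G)⁻¹) = 1
        rw [← h.2, mul_assoc, mul_inv_cancel, mul_one, sqA b.2]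
    have hle : f.range ≤ D.subgroupOf A := by
      rintro _ ⟨b, rfl⟩
      refine mem_subgroupOf.2 ⟨(f b).2, mem_centralizer_singleton_iff.2 ?_⟩
      show (b : G) * ((x'' : G) * b * (x'' : G)⁻¹) * x'' =
        x'' * ((b : G) * ((x'' : G) * b * (x'' : G)⁻¹))
      rw [commA b.2 (hnN x'' b b.2)]
      rw [hxi]
      calc (x'' : G) * b * x'' * b * x'' = x'' * (b * x'' * b * x'') := by group
        _ = _ := by
          rw [show (b : G) * x'' * b * x'' = x'' * b * x'' * b from by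
            simpa [hxi, mul_assoc] using commA b.2 (hnN x'' b b.2)]
    have hidx := f.ker.card_mul_index
    rw [index_ker, hkerf, Nat.card_congr (subgroupOfEquivOfLe inf_le_left).toEquiv, hA16] at hidx
    have h4 := hC4 x'' hx''S (by rw [hπx'']; exact h1')
    rw [← hD] at h4
    have hge : Nat.card (D.subgroupOf A) ≤ Nat.card f.range := by
      rw [Nat.card_congr (subgroupOfEquivOfLe inf_le_left).toEquiv]
      nlinarith [Nat.card_pos (α := D)]
    obtain ⟨b, hb⟩ := (eq_of_le_of_card_ge hle hge).ge (show (⟨a, haA⟩ : A) ∈ D.subgroupOf A from hcomm)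
    refine ⟨(b : G) * c, ?_⟩
    have hb' : (b : G) * ((x'' : G) * b * (x'' : G)⁻¹) = a := congrArg Subtype.val hb
    have e1 : (b : G) * x'' * (b : G)⁻¹ = x' := by
      rw [hax, ← hb', invA b.2]
      rw [commA b.2 (hnN x'' b b.2), hxi]
      rw [show (x'' : G) * ((x'' : G) * b * x'' * b) = ((x'' : G) * x'') * (b * x'' * b) by group,
        hx''2, one_mul]
    rw [← e1, hx'']; push_cast; group
  -- counting classes
  have cover : ∀ p q : G, orderOf p = 2 →
      (∀ x : G, x * x = 1 → x ≠ 1 → (∃ g, g * p * g⁻¹ = x) ∨ (∃ g, g * q * g⁻¹ = x)) → False := by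
    intro p q _ hall
    have hle : Nat.card {c : ConjClasses G // ∃ x ∈ c.carrier, orderOf x = 2} ≤
        ({ConjClasses.mk p, ConjClasses.mk q} : Set (ConjClasses G)).ncard := by
      rw [← Nat.card_coe_set_eq]
      refine Nat.card_le_card_of_injective (fun c => ⟨c.1, ?_⟩) fun a b h =>
        Subtype.ext (congrArg (fun z => z.1) h :)
      obtain ⟨x, hx, hxo⟩ := c.2
      have hc : ConjClasses.mk x = c.1 := ConjClasses.mem_carrier_iff_mk_eq.1 hx
      have hx2 : x * x = 1 := by rw [← sq, ← hxo]; exact pow_orderOf_eq_one x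
      have hxne : x ≠ 1 := fun e => by rw [e, orderOf_one] at hxo; omega
      rw [← hc]
      rcases hall x hx2 hxne with ⟨g, rfl⟩ | ⟨g, rfl⟩
      · exact Or.inl (ConjClasses.mk_eq_mk_iff_isConj.2 (isConj_iff.2 ⟨g⁻¹, by group⟩))
      · exact Or.inr (ConjClasses.mk_eq_mk_iff_isConj.2 (isConj_iff.2 ⟨g⁻¹, by group⟩))
    have := Set.ncard_insert_le (ConjClasses.mk p) ({ConjClasses.mk q} : Set (ConjClasses G))
    rw [Set.ncard_singleton] at this
    omega
  have intoS : ∀ x : G, x * x = 1 → ∃ g : G, g * x * g⁻¹ ∈ (S : Subgroup G) := by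
    intro x hx
    obtain ⟨R, hR⟩ := (isPGroup_zpowers_two (n := 1) (b := x) (by rw [pow_one, sq, hx])).exists_le_sylow
    obtain ⟨k, hk⟩ := MulAction.exists_smul_eq G R S
    refine ⟨k, ?_⟩
    rw [← hk, CfsgLib.Transfer.mem_coe_smul_sylow_iff,
      show k⁻¹ * (k * x * k⁻¹) * k = x by group]
    exact hR (mem_zpowers x)
  have orderA : ∀ {a : G}, a ∈ A → a ≠ 1 → orderOf a = 2 := fun ha ha1 =>
    orderOf_eq_prime (by rw [sq]; exact sqA ha) ha1
  have reduce : ∀ (hC4 : ∀ s : (normalizer (A : Set G)), (s : G) ∈ (S : Subgroup G) → π s ≠ 1 →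
      Nat.card ↥(A ⊓ centralizer ({(s : G)} : Set G)) ≤ 4) (x : G), x * x = 1 → x ≠ 1 →
      (∃ a ∈ A, a ≠ 1 ∧ ∃ g, g * a * g⁻¹ = x) ∨
        ∀ t : (normalizer (A : Set G)), (t : G) ∈ (S : Subgroup G) → π t ≠ 1 → (t : G) * t = 1 →
          ∃ g : G, g * t * g⁻¹ = x := by
    intro hC4 x hx hx1
    obtain ⟨g, hg⟩ := intoS x hx
    set x₀ : (normalizer (A : Set G)) := ⟨g * x * g⁻¹, hSN hg⟩
    have hx₀1 : g * x * g⁻¹ ≠ 1 := fun e => hx1 (conj_eq_one_iff.1 e)
    have hx₀2 : g * x * g⁻¹ * (g * x * g⁻¹) = 1 := by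
      calc _ = g * (x * x) * g⁻¹ := by group
        _ = 1 := by rw [hx]; group
    by_cases h : π x₀ = 1
    · exact Or.inl ⟨g * x * g⁻¹, hSA x₀ hg h, hx₀1, g⁻¹, by group⟩
    · refine Or.inr fun t ht ht1 ht2 => ?_
      obtain ⟨k, hk⟩ := hout hC4 t x₀ ht hg ht1 h ht2 hx₀2
      refine ⟨g⁻¹ * k, ?_⟩
      calc g⁻¹ * k * t * (g⁻¹ * k)⁻¹ = g⁻¹ * (k * t * k⁻¹) * g := by group
        _ = x := by rw [hk]; show g⁻¹ * (g * x * g⁻¹) * g = x; group
  -- the stabiliser of `y` is a point stabiliser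
  have hTfull : ∀ τ : Equiv.Perm (Fin 5), Equiv.Perm.sign τ = 1 → τ 4 = 4 → τ ∈ T y := by
    by_contra hno
    push Not at hno
    have hTV : ∀ σ ∈ T y, IsV σ := by
      intro σ hσ
      by_contra hV
      obtain ⟨τ, hτ, hτ4, hτT⟩ := hno
      have hsσ : Equiv.Perm.sign σ = 1 := by obtain ⟨n, -, rfl⟩ := hσ; exact sgn n
      obtain ⟨v, hv, e | e | e⟩ := stab_gen σ hsσ (hT4 σ hσ) hV τ hτ hτ4 <;>
        refine hτT (e ▸ ?_)
      · exact hVT v hv
      · exact Tmul (hVT v hv) hσ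
      · exact Tmul (Tmul (hVT v hv) hσ) hσ
    -- `(normalizer (A : Set G))` is transitive on the involutions of `A`
    letI : MulAction (normalizer (A : Set G)) A' := MulAction.compHom A' (MulAut.conjNormal : (normalizer (A : Set G)) →* MulAut A')
    set y' : A' := ⟨⟨y, hAN hyA⟩, hyA⟩ with hy'
    have hstabeq : MulAction.stabilizer (normalizer (A : Set G)) y' = vAlt.comap π := by
      ext n
      rw [MulAction.mem_stabilizer_iff, mem_comap]
      refine ⟨fun h => hTV _ ⟨n, memSt.2 (congrArg (fun z : A' => ((z : (normalizer (A : Set G))) : G)) h), rfl⟩,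
        fun h => Subtype.ext (Subtype.ext (Tfix hyA n (hVT _ h)))⟩
    have horb : (MulAction.orbit (normalizer (A : Set G)) y').ncard = 15 := by
      rw [← MulAction.index_stabilizer, hstabeq, index_comap_of_surjective _ hπ]
      have := vAlt.card_mul_index
      rw [card_vAlt, nat_card_alternatingGroup, Nat.card_fin,
        show Nat.factorial 5 / 2 = 4 * 15 from rfl] at this
      exact Nat.eq_of_mul_eq_mul_left (by norm_num) this
    have htrans : ∀ a ∈ A, a ≠ 1 → ∃ n : (normalizer (A : Set G)), (n : G) * y * (n : G)⁻¹ = a := by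
      have hsub : MulAction.orbit (normalizer (A : Set G)) y' ⊆ {z : A' | z ≠ 1} := by
        rintro _ ⟨n, rfl⟩ e
        have e' : (n : G) * y * (n : G)⁻¹ = 1 := congrArg (fun z : A' => ((z : (normalizer (A : Set G))) : G)) e
        exact hy1 (conj_eq_one_iff.1 e')
      have heq : MulAction.orbit (normalizer (A : Set G)) y' = {z : A' | z ≠ 1} := by
        refine Set.eq_of_subset_of_ncard_le hsub ?_
        rw [horb, show {z : A' | z ≠ 1} = ({1} : Set A')ᶜ from rfl, Set.ncard_compl,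
          Set.ncard_singleton, hA'16]
      intro a ha ha1
      obtain ⟨n, hn⟩ := heq.ge (show (⟨⟨a, hAN ha⟩, ha⟩ : A') ≠ 1 from fun e =>
        ha1 (congrArg (fun z : A' => ((z : (normalizer (A : Set G))) : G)) e))
      exact ⟨n, congrArg (fun z : A' => ((z : (normalizer (A : Set G))) : G)) hn⟩
    have hC4 : ∀ s : (normalizer (A : Set G)), (s : G) ∈ (S : Subgroup G) → π s ≠ 1 →
        Nat.card ↥(A ⊓ centralizer ({(s : G)} : Set G)) ≤ 4 := by
      intro s hs hs1
      by_contra h8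
      obtain ⟨ρ, hρs, hρ4, hgen⟩ := v_gen _ (hSV s hs) (fun e => hs1 (Subtype.ext e))
      obtain ⟨ρ', hρ's, hρ'move⟩ := move_conj _ (hSV s hs) (fun e => hs1 (Subtype.ext e))
      obtain ⟨c, hc⟩ := lift ρ hρs
      obtain ⟨c', hc'⟩ := lift ρ' hρ's
      set X := A ⊓ centralizer ({(s : G)} : Set G) with hX
      have hXc : ∀ d : (normalizer (A : Set G)), Nat.card ↥(X.map (MulAut.conj (d : G)).toMonoidHom) = Nat.card X :=
        fun d => Subgroup.card_map_of_injective (MulAut.conj (d : G)).injective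
      have hXA : ∀ d : (normalizer (A : Set G)), X.map (MulAut.conj (d : G)).toMonoidHom ≤ A := by
        rintro d _ ⟨z, hz, rfl⟩; exact hnN d z hz.1
      set X₁ := X.map (MulAut.conj (c : G)).toMonoidHom
      set X₂ := X.map (MulAut.conj (c' : G)).toMonoidHom
      have hle : ∀ U W : Subgroup G, U ≤ A → W ≤ A →
          Nat.card U * Nat.card W ≤ 16 * Nat.card ↥(U ⊓ W) := by
        intro U W hU hW
        have hn : U ≤ normalizer (W : Set G) := fun u hu =>
          mem_normalizer_of_forall fun w hw => by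
            rw [commA (hU hu) (hW hw), mul_inv_cancel_right]; exact hw
        rw [← CfsgLib.Coprime.card_sup_mul_card_inf hn]
        exact Nat.mul_le_mul_right _ (hA16 ▸ card_le_of_le (sup_le hU hW))
      have h1 := hle X X₁ inf_le_left (hXA c)
      have h2 := hle (X ⊓ X₁) X₂ (inf_le_left.trans inf_le_left) (hXA c')
      rw [show Nat.card ↥X₁ = Nat.card ↥X from hXc c] at h1
      rw [show Nat.card ↥X₂ = Nat.card ↥X from hXc c'] at h2
      have hX5 : 4 < Nat.card X := by omega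
      have hX8 : 8 ≤ Nat.card X := by
        have hd := card_dvd_of_le (inf_le_left : X ≤ A)
        rw [hA16] at hd
        by_contra hlt
        have : Nat.card X ∈ Nat.divisors 16 := Nat.mem_divisors.2 ⟨hd, by norm_num⟩
        have hd' : Nat.card X = 1 ∨ Nat.card X = 2 ∨ Nat.card X = 4 ∨ Nat.card X = 8 ∨
            Nat.card X = 16 := by
          revert this; generalize Nat.card X = m; intro this; fin_cases this <;> simp
        omega
      have hpos : 4 ≤ Nat.card ↥(X ⊓ X₁) := by nlinarith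
      have hpos2 : 2 ≤ Nat.card ↥(X ⊓ X₁ ⊓ X₂) := by nlinarith
      have hne : X ⊓ X₁ ⊓ X₂ ≠ ⊥ := fun e => by rw [e, Subgroup.card_bot] at hpos2; omega
      obtain ⟨⟨x, ⟨hxX, hxX₁⟩, hxX₂⟩, hx1⟩ := (Subgroup.ne_bot_iff_exists_ne_one).1 hne
      have hx1' : x ≠ 1 := fun e => hx1 (Subtype.ext e)
      have hsx : (π s : Equiv.Perm (Fin 5)) ∈ T x := ⟨s, memSt.2 (mul_inv_eq_iff_eq_mul.2
        (mem_centralizer_singleton_iff.1 hxX.2).symm), rfl⟩
      have hconjT : ∀ d : (normalizer (A : Set G)), x ∈ X.map (MulAut.conj (d : G)).toMonoidHom →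
          (π d : Equiv.Perm (Fin 5)) * π s * (π d : Equiv.Perm (Fin 5))⁻¹ ∈ T x := by
        intro d hd
        obtain ⟨z, hz, e⟩ := hd
        refine ⟨d * s * d⁻¹, memSt.2 ?_, by rw [map_mul, map_mul, map_inv]; rfl⟩
        have hz' : (z : G) * s = s * z := mem_centralizer_singleton_iff.1 hz.2
        rw [← show (d : G) * z * (d : G)⁻¹ = x from e]
        calc ((d * s * d⁻¹ : (normalizer (A : Set G))) : G) * ((d : G) * z * (d : G)⁻¹) * ((d * s * d⁻¹ : (normalizer (A : Set G))) : G)⁻¹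
            = (d : G) * ((s : G) * z * (s : G)⁻¹) * (d : G)⁻¹ := by push_cast; group
          _ = _ := by rw [← hz', mul_inv_cancel_right]
      have hs' := hconjT c hxX₁
      rw [hc] at hs'
      have hs'' := hconjT c' hxX₂
      rw [hc'] at hs''
      have hVTx : ∀ v, IsV v → v ∈ T x := by
        intro v hv
        rcases hgen v hv with e | e | e | e <;> rw [e]
        · exact ⟨1, one_mem _, by rw [map_one]; rfl⟩
        · exact hsx
        · exact hs'
        · exact Tmul hsx hs'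
      exact hρ'move (hkey hxX.1 hx1' hVTx _ hs'')
    by_cases ht : ∃ t : (normalizer (A : Set G)), (t : G) ∈ (S : Subgroup G) ∧ π t ≠ 1 ∧ (t : G) * t = 1
    · obtain ⟨t, htS, ht1, ht2⟩ := ht
      refine cover y (t : G) (orderA hyA hy1) fun x hx hx1 => ?_
      rcases reduce hC4 x hx hx1 with ⟨a, ha, ha1, g, hg⟩ | h
      · obtain ⟨n, hn⟩ := htrans a ha ha1
        exact Or.inl ⟨g * n, by rw [← hg, ← hn]; group⟩
      · exact Or.inr (h t htS ht1 ht2)
    · refine cover y y (orderA hyA hy1) fun x hx hx1 => Or.inl ?_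
      obtain ⟨g, hg⟩ := intoS x hx
      have hA0 : g * x * g⁻¹ ∈ A := hSA ⟨g * x * g⁻¹, hSN hg⟩ hg (by
        by_contra h1
        refine ht ⟨⟨g * x * g⁻¹, hSN hg⟩, hg, h1, ?_⟩
        show g * x * g⁻¹ * (g * x * g⁻¹) = 1
        calc _ = g * (x * x) * g⁻¹ := by group
          _ = 1 := by rw [hx]; group)
      obtain ⟨n, hn⟩ := htrans _ hA0 (fun e => hx1 (conj_eq_one_iff.1 e))
      exact ⟨g⁻¹ * n, by
        calc g⁻¹ * n * y * (g⁻¹ * n)⁻¹ = g⁻¹ * ((n : G) * y * (n : G)⁻¹) * g := by group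
          _ = x := by rw [hn]; group⟩
  -- the five points
  choose σi hσis hσi4 using exists_even_to
  choose ni hni using fun i => lift (σi i) (hσis i)
  set Y : Fin 5 → G := fun i => (ni i : G) * y * (ni i : G)⁻¹ with hY
  have hYn : ∀ (n : (normalizer (A : Set G))) (i : Fin 5), (n : G) * Y i * (n : G)⁻¹ =
      Y ((π n : Equiv.Perm (Fin 5)) i) := by
    intro n i
    set j := (π n : Equiv.Perm (Fin 5)) i with hj
    have hT : (π ((ni j)⁻¹ * n * ni i) : Equiv.Perm (Fin 5)) ∈ T y := by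
      refine hTfull _ (sgn _) ?_
      rw [map_mul, map_mul, map_inv]
      show ((π (ni j) : Equiv.Perm (Fin 5))⁻¹ * π n * π (ni i)) 4 = 4
      rw [hni, hni, Equiv.Perm.mul_apply, Equiv.Perm.mul_apply, hσi4, ← hj]
      rw [Equiv.Perm.inv_eq_iff_eq, hσi4]
    have := Tfix hyA _ hT
    push_cast at this
    show (n : G) * ((ni i : G) * y * (ni i : G)⁻¹) * (n : G)⁻¹ = (ni j : G) * y * (ni j : G)⁻¹
    calc _ = (ni j : G) * ((ni j : G)⁻¹ * n * ni i * y * ((ni j : G)⁻¹ * n * ni i)⁻¹) *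
        (ni j : G)⁻¹ := by group
      _ = _ := by rw [this]
  have hYA : ∀ i, Y i ∈ A := fun i => hnN _ y hyA
  have hY4 : Y 4 = y := Tfix hyA (ni 4) (hTfull _ (sgn _) (by rw [hni, hσi4]))
  have hY1 : ∀ i, Y i ≠ 1 := fun i e => hy1 (conj_eq_one_iff.1 e)
  let cg : CommGroup A := { (inferInstance : Group A) with mul_comm := mul_comm' }
  let Ya : Fin 5 → A := fun i => ⟨Y i, hYA i⟩
  let e₀ : Multiplicative V5 →* A :=
    { toFun := fun m => ∏ i, Ya i ^ (Multiplicative.toAdd m i).val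
      map_one' := by simp
      map_mul' := fun m m' => by
        rw [← Finset.prod_mul_distrib]
        refine Finset.prod_congr rfl fun i _ => ?_
        rw [toAdd_mul, Pi.add_apply, ← pow_add, ZMod.val_add, ← pow_mod_orderOf,
          ← pow_mod_orderOf (Ya i) (_ + _)]
        have : orderOf (Ya i) = 2 := orderOf_eq_prime (Subtype.ext (hA.2 _ (hYA i)))
          fun e => hY1 i (congrArg Subtype.val e)
        rw [this, Nat.mod_mod] }
  let e : Multiplicative V5 →* G := A.subtype.comp e₀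
  have he_unit : ∀ i, e (Multiplicative.ofAdd (unit5 i)) = Y i := by
    intro i
    show ((∏ k, Ya k ^ (unit5 i k).val : A) : G) = Y i
    rw [Finset.prod_eq_single i]
    · have hu : (unit5 i i).val = 1 := by rw [unit5, Pi.single_eq_same]; rfl
      rw [hu, pow_one]
    · intro k _ hk
      simp [unit5, Pi.single_eq_of_ne hk]
    · intro h; exact absurd (Finset.mem_univ i) h
  have hperm : ∀ (n : (normalizer (A : Set G))) (v : V5), (n : G) * e (Multiplicative.ofAdd v) * (n : G)⁻¹ =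
      e (Multiplicative.ofAdd (pm (π n : Equiv.Perm (Fin 5)) v)) := by
    intro n v
    let cn : A →* A :=
      { toFun := fun b => ⟨(n : G) * b * (n : G)⁻¹, hnN n b b.2⟩
        map_one' := Subtype.ext (by simp)
        map_mul' := fun b b' => Subtype.ext (by simp [mul_assoc]) }
    show ((cn (∏ i, Ya i ^ (v i).val) : A) : G) = ((∏ i, Ya i ^ (pm _ v i).val : A) : G)
    rw [map_prod]
    congr 1
    refine Fintype.prod_equiv (π n : Equiv.Perm (Fin 5)) _ _ fun i => ?_
    rw [map_pow]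
    congr 1
    · exact Subtype.ext (hYn n i)
    · simp [pm]
  have hrange : e.range = A := by
    have hle : e.range ≤ A := by rintro _ ⟨m, rfl⟩; exact (e₀ m).2
    by_contra hne
    obtain ⟨n, hn⟩ := lift five h5s
    refine hfive n hn e.range hle (fun h => hY1 0 ?_) hne (mem_normalizer_of_forall ?_)
    · have : e (Multiplicative.ofAdd (unit5 0)) ∈ e.range := ⟨_, rfl⟩
      rwa [h, mem_bot, he_unit] at this
    · rintro _ ⟨m, rfl⟩
      rw [show m = Multiplicative.ofAdd (Multiplicative.toAdd m) from rfl, hperm]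
      exact ⟨_, rfl⟩
  have hone : e (Multiplicative.ofAdd one5) = 1 := by
    by_contra h
    obtain ⟨n, hn⟩ := lift five h5s
    refine hnotfixed n hn _ (hrange ▸ ⟨_, rfl⟩) h ?_
    rw [hperm]; rfl
  have hkere : ∀ v, e (Multiplicative.ofAdd v) = 1 → Eqv v 0 := by
    intro v hv
    have hk : Nat.card e.ker = 2 := by
      have h1 := e.ker.card_mul_index
      rw [index_ker, hrange, hA16, Nat.card_congr Multiplicative.toAdd, Nat.card_fun, Nat.card_fin,
        Nat.card_zmod] at h1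
      rw [show (2 : ℕ) ^ 5 = 32 from rfl] at h1
      omega
    let o : e.ker := ⟨Multiplicative.ofAdd one5, hone⟩
    have ho : o ≠ 1 := fun h => one5_ne
      (congrArg (fun x : e.ker => Multiplicative.toAdd (x : Multiplicative V5)) h)
    obtain ⟨y₀, -, huniq⟩ := (Nat.card_eq_two_iff' (1 : e.ker)).1 hk
    have hsub : ∀ z : e.ker, z = 1 ∨ z = o := fun z =>
      (em (z = 1)).imp id fun hz => (huniq z hz).trans (huniq o ho).symm
    rcases hsub ⟨Multiplicative.ofAdd v, hv⟩ with h | h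
    · left; exact congrArg (fun x : e.ker => Multiplicative.toAdd (x : Multiplicative V5)) h
    · right; rw [zero_add]
      exact congrArg (fun x : e.ker => Multiplicative.toAdd (x : Multiplicative V5)) h
  have exE : ∀ a ∈ A, ∃ v, e (Multiplicative.ofAdd v) = a := by
    intro a ha; rw [← hrange] at ha; obtain ⟨m, rfl⟩ := ha; exact ⟨Multiplicative.toAdd m, rfl⟩
  have eeqv : ∀ {v w : V5}, Eqv v w → e (Multiplicative.ofAdd v) = e (Multiplicative.ofAdd w) := by
    rintro v w (rfl | rfl)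
    · rfl
    · rw [ofAdd_add, map_mul, hone, mul_one]
  have einj : ∀ {v w : V5}, e (Multiplicative.ofAdd v) = e (Multiplicative.ofAdd w) → Eqv v w := by
    intro v w h
    have h2 := hkere (v + w) (by rw [ofAdd_add, map_mul, h, ← map_mul, ← ofAdd_add, vec_add_self]; exact map_one e)
    rcases h2 with h2 | h2
    · left
      calc v = v + (w + w) := by rw [vec_add_self, add_zero]
        _ = w := by rw [← add_assoc, h2, zero_add]
    · right
      calc v = v + (w + w) := by rw [vec_add_self, add_zero]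
        _ = w + one5 := by rw [← add_assoc, h2, zero_add, add_comm]
  -- centralisers of the outside elements
  have hC4 : ∀ s : (normalizer (A : Set G)), (s : G) ∈ (S : Subgroup G) → π s ≠ 1 →
      Nat.card ↥(A ⊓ centralizer ({(s : G)} : Set G)) ≤ 4 := by
    intro s hs hs1
    obtain ⟨p, q, hpq⟩ := fixed_small _ (hSV s hs) (fun h => hs1 (Subtype.ext h))
    have hsub : ((A ⊓ centralizer ({(s : G)} : Set G) : Subgroup G) : Set G) ⊆
        (fun v => e (Multiplicative.ofAdd v)) '' ({0, p, q, p + q} : Set V5) := by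
      rintro a ⟨ha, hc⟩
      obtain ⟨v, rfl⟩ := exE a ha
      have hfix := hpq v (einj ((hperm s v).symm.trans
        (mul_inv_eq_iff_eq_mul.2 (mem_centralizer_singleton_iff.1 hc).symm)))
      rcases hfix with h | h | h | h
      · exact ⟨0, by simp, (eeqv h).symm⟩
      · exact ⟨p, by simp, (eeqv h).symm⟩
      · exact ⟨q, by simp, (eeqv h).symm⟩
      · exact ⟨p + q, by simp, (eeqv h).symm⟩
    rw [← SetLike.coe_sort_coe, Nat.card_coe_set_eq]
    refine (Set.ncard_le_ncard hsub (Set.toFinite _)).trans ((Set.ncard_image_le (Set.toFinite _)).trans ?_)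
    refine (Set.ncard_insert_le _ _).trans ?_
    refine (Nat.add_le_add_right ((Set.ncard_insert_le _ _).trans
      (Nat.add_le_add_right ((Set.ncard_insert_le _ _).trans (le_of_eq ?_)) 1)) 1)
    rw [Set.ncard_singleton]
  -- three classes
  set E4 := e (Multiplicative.ofAdd (unit5 4)) with hE4
  set E34 := e (Multiplicative.ofAdd (unit5 3 + unit5 4)) with hE34
  have hE4A : E4 ∈ A := hrange ▸ ⟨_, rfl⟩
  have hE34A : E34 ∈ A := hrange ▸ ⟨_, rfl⟩
  have hE4ne : E4 ≠ 1 := fun h => cls_facts.2.2.1 (hkere _ h)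
  have hE34ne : E34 ≠ 1 := fun h => cls_facts.2.2.2.1 (hkere _ h)
  have inA : ∀ v : V5, ¬ Eqv v 0 → ∃ n : (normalizer (A : Set G)),
      (n : G) * (if cls v then E4 else E34) * (n : G)⁻¹ = e (Multiplicative.ofAdd v) := by
    intro v hv
    rcases cases_cls v hv with ⟨hc, i, hi⟩ | ⟨hc, i, j, hij, hi⟩
    · obtain ⟨σ, hσ, hσ4⟩ := exists_even_to i
      obtain ⟨n, hn⟩ := lift σ hσ
      exact ⟨n, by rw [if_pos hc, hE4, hperm, hn, pm_unit5, hσ4, eeqv hi]⟩
    · obtain ⟨σ, hσ, hσ3, hσ4⟩ := exists_even_pair i j hij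
      obtain ⟨n, hn⟩ := lift σ hσ
      exact ⟨n, by rw [if_neg (by simp [hc]), hE34, hperm, hn, pm_add, pm_unit5, pm_unit5, hσ3, hσ4,
        eeqv hi]⟩
  have coverA : ∀ x : G, (∃ a ∈ A, a ≠ 1 ∧ ∃ g, g * a * g⁻¹ = x) →
      (∃ g, g * E4 * g⁻¹ = x) ∨ (∃ g, g * E34 * g⁻¹ = x) := by
    rintro x ⟨a, ha, ha1, g, hg⟩
    obtain ⟨v, rfl⟩ := exE a ha
    have hv : ¬ Eqv v 0 := fun h => ha1 ((eeqv h).trans (map_one e))
    obtain ⟨n, hn⟩ := inA v hv
    by_cases hc : cls v = true
    · rw [if_pos hc] at hn; exact Or.inl ⟨g * n, by rw [← hg, ← hn]; group⟩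
    · rw [if_neg hc] at hn; exact Or.inr ⟨g * n, by rw [← hg, ← hn]; group⟩
  obtain ⟨t, htS, ht1, ht2⟩ : ∃ t : (normalizer (A : Set G)), (t : G) ∈ (S : Subgroup G) ∧ π t ≠ 1 ∧ (t : G) * t = 1 := by
    by_contra ht
    refine cover E4 E34 (orderA hE4A hE4ne) fun x hx hx1 => coverA x ?_
    obtain ⟨g, hg⟩ := intoS x hx
    refine ⟨g * x * g⁻¹, hSA ⟨g * x * g⁻¹, hSN hg⟩ hg ?_, fun h => hx1 (conj_eq_one_iff.1 h),
      g⁻¹, by group⟩
    by_contra h1
    refine ht ⟨⟨g * x * g⁻¹, hSN hg⟩, hg, h1, ?_⟩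
    show g * x * g⁻¹ * (g * x * g⁻¹) = 1
    calc _ = g * (x * x) * g⁻¹ := by group
      _ = 1 := by rw [hx]; group
  have hnot : ∀ s : (normalizer (A : Set G)), (s : G) ∈ (S : Subgroup G) → π s ≠ 1 → (s : G) * s = 1 →
      ∀ a ∈ A, a ≠ 1 → ∀ g : G, g * a * g⁻¹ ≠ (s : G) := by
    intro s hs hs1 hs2 a ha ha1 g hg
    refine cover E4 E34 (orderA hE4A hE4ne) fun x hx hx1 => coverA x ?_
    rcases reduce hC4 x hx hx1 with h | h
    · exact h
    · obtain ⟨k, hk⟩ := h s hs hs1 hs2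
      exact ⟨a, ha, ha1, k * g, by rw [← hk, ← hg]; group⟩
  have hsep : ∀ g : G, g * E4 * g⁻¹ ≠ E34 := by
    intro g hg
    refine cover E4 (t : G) (orderA hE4A hE4ne) fun x hx hx1 => ?_
    rcases reduce hC4 x hx hx1 with h | h
    · rcases coverA x h with h | ⟨k, hk⟩
      · exact Or.inl h
      · exact Or.inl ⟨k * g, by rw [← hk, ← hg]; group⟩
    · exact Or.inr (h t htS ht1 ht2)
  have hclosed : ClosedTwo A := by
    intro P hP hAP a ha g hga
    obtain ⟨R, hR⟩ := hP.exists_le_sylow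
    obtain ⟨k, hk⟩ := MulAction.exists_smul_eq G R S
    have hin : ∀ z ∈ P, k * z * k⁻¹ ∈ (S : Subgroup G) := by
      intro z hz
      rw [← hk, CfsgLib.Transfer.mem_coe_smul_sylow_iff,
        show k⁻¹ * (k * z * k⁻¹) * k = z by group]
      exact hR hz
    have step : ∀ b ∈ A, ∀ h : G, h * b * h⁻¹ ∈ (S : Subgroup G) → h * b * h⁻¹ ∈ A := by
      intro b hb h hh
      by_cases hb1 : b = 1
      · rw [hb1]; simp
      by_cases h1 : π ⟨h * b * h⁻¹, hSN hh⟩ = 1
      · exact hSA ⟨_, hSN hh⟩ hh h1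
      · exact absurd rfl (hnot ⟨h * b * h⁻¹, hSN hh⟩ hh h1 (by
          show h * b * h⁻¹ * (h * b * h⁻¹) = 1
          calc _ = h * (b * b) * h⁻¹ := by group
            _ = 1 := by rw [sqA hb]; group) b hb hb1 h)
    have hkN : k ∈ normalizer (A : Set G) :=
      mem_normalizer_of_forall fun b hb => step b hb k (hin b (hAP hb))
    refine (mem_normalizer_iff.1 hkN _).2 ?_
    have := step a ha (k * g) (by
      rw [show k * g * a * (k * g)⁻¹ = k * (g * a * g⁻¹) * k⁻¹ by group]; exact hin _ hga)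
    rwa [show k * g * a * (k * g)⁻¹ = k * (g * a * g⁻¹) * k⁻¹ by group] at this
  refine ⟨{ A := A, S := S, card_S := hS64, elem := hA, card_A := hA16, le_S := hAS, S_le := hSN,
            e := e, e_range := hrange, e_eq_one := hkere, e_one5 := hone,
            act := ?_, lift := ?_, lift_all := ?_, S_act := ?_, S_faithful := ?_, inv_lift := ?_,
            conj_cls := ?_, closed := hclosed }, rfl⟩
  · exact fun n hn => ⟨_, sgn ⟨n, hn⟩, hperm ⟨n, hn⟩⟩
  · intro σ hσ hσ4
    obtain ⟨n, hnS, hn⟩ := liftS σ hσ hσ4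
    exact ⟨n, n.2, hnS, hn ▸ hperm n⟩
  · intro σ hσ
    obtain ⟨n, hn⟩ := lift σ hσ
    exact ⟨n, n.2, hn ▸ hperm n⟩
  · exact fun s hs => ⟨_, hSV ⟨s, hSN hs⟩ hs, hperm ⟨s, hSN hs⟩⟩
  · exact fun s hs hfix => hSA ⟨s, hSN hs⟩ hs (hfaith ⟨s, hSN hs⟩ hfix)
  · intro σ hσ
    by_cases h1 : σ = 1
    · exact ⟨1, one_mem _, mul_one 1, fun v => by rw [h1]; simp [pm_one]⟩
    obtain ⟨ρ, hρs, hρ4, hρ⟩ := v_conj _ (hSV t htS) (fun h => ht1 (Subtype.ext h)) σ hσ h1
    obtain ⟨c, hcS, hc⟩ := liftS ρ hρs hρ4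
    refine ⟨((c * t * c⁻¹ : (normalizer (A : Set G))) : G), (mem_normalizer_iff.1 hcS _).1 htS, ?_, ?_⟩
    · calc ((c * t * c⁻¹ : (normalizer (A : Set G))) : G) * ((c * t * c⁻¹ : (normalizer (A : Set G))) : G)
          = (c : G) * ((t : G) * t) * (c : G)⁻¹ := by push_cast; group
        _ = 1 := by rw [ht2]; group
    · have e1 : (π (c * t * c⁻¹) : Equiv.Perm (Fin 5)) = σ := by
        rw [map_mul, map_mul, map_inv]
        show (π c : Equiv.Perm (Fin 5)) * π t * (π c : Equiv.Perm (Fin 5))⁻¹ = σ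
        rw [hc, hρ]
      exact e1 ▸ hperm _
  · intro v w g hg hv
    have hw : ¬ Eqv w 0 := fun h => hv (hkere v (conj_eq_one_iff.1
      (hg.trans ((eeqv h).trans (map_one e)))))
    obtain ⟨n, hn⟩ := inA v hv
    obtain ⟨m, hm⟩ := inA w hw
    rw [← hn, ← hm] at hg
    by_contra hne
    have hg' : ((m : G)⁻¹ * g * n) * (if cls v then E4 else E34) * ((m : G)⁻¹ * g * n)⁻¹ =
        if cls w then E4 else E34 := by
      calc _ = (m : G)⁻¹ * (g * ((n : G) * (if cls v then E4 else E34) * (n : G)⁻¹) * g⁻¹) * m := by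
            group
        _ = _ := by rw [hg]; group
    rcases hcv : cls v with - | - <;> rcases hcw : cls w with - | - <;>
      simp only [hcv, hcw, Bool.false_eq_true, if_false, if_true] at hg' hne
    · exact hne trivial
    · refine hsep ((m : G)⁻¹ * g * n)⁻¹ ?_
      rw [← hg']; group
    · exact hsep _ hg'
    · exact hne trivial

end CfsgLib.StrongTwoClasses
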