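import Mathlib
import Cfsg.Agent.Lib.Coprime.Basic

/-!
# No Sylow 2-subgroup of the alternating group of degree eight has a centre of order sixteen
-/

set_option autoImplicit false

namespace CfsgLib.StrongTwoClasses

open Equiv Subgroup

/-- A four-cycle times a transposition. -/
def eightX : Perm (Fin 8) := swap 0 1 * swap 1 2 * swap 2 3 * swap 4 5

theorem eightX_spec : Perm.sign eightX = 1 ∧ eightX ^ 4 = 1 ∧
    (∀ i : Fin 8, (eightX (eightX i) ≠ i → i = 0 ∨ i = 1 ∨ i = 2 ∨ i = 3)) ∧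
    (∀ i : Fin 8, (eightX (eightX i) = i → eightX i ≠ i → i = 4 ∨ i = 5)) ∧
    (∀ i : Fin 8, (eightX i = i → i = 6 ∨ i = 7)) ∧
    eightX 0 = 1 ∧ eightX 1 = 2 ∧ eightX 2 = 3 ∧ eightX 4 = 5 ∧ eightX 6 = 6 ∧ eightX 7 = 7 := by
  decide +kernel

/-- The centralizer of this permutation in the symmetric group has at most sixteen elements. -/
theorem card_centralizer_eightX :
    Nat.card {σ : Perm (Fin 8) // σ * eightX = eightX * σ} ≤ 16 := by
  classical
  obtain ⟨-, -, m4, m2, m1, e0, e1, e2, e4, e6, e7⟩ := eightX_spec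
  set x := eightX
  let S4 : Finset (Fin 8 × Fin 8 × Fin 8) := {0, 1, 2, 3} ×ˢ ({4, 5} ×ˢ {6, 7})
  have hcomm : ∀ {σ : Perm (Fin 8)}, σ * x = x * σ → ∀ i, σ (x i) = x (σ i) := fun h i =>
    congrArg (fun f : Perm (Fin 8) => f i) h
  have hmem : ∀ σ : {σ : Perm (Fin 8) // σ * x = x * σ}, (σ.1 0, σ.1 4, σ.1 6) ∈ S4 := by
    rintro ⟨σ, hσ⟩
    have h := hcomm hσ
    have a : σ 0 = 0 ∨ σ 0 = 1 ∨ σ 0 = 2 ∨ σ 0 = 3 := m4 _ fun hh => by
      rw [← h, ← h, e0, e1] at hh
      exact absurd (σ.injective hh) (by decide)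
    have b : σ 4 = 4 ∨ σ 4 = 5 := by
      refine m2 _ ?_ fun hh => ?_
      · rw [← h, ← h, e4]
        exact congrArg σ (by decide +kernel : x 5 = 4)
      · rw [← h, e4] at hh
        exact absurd (σ.injective hh) (by decide)
    have c : σ 6 = 6 ∨ σ 6 = 7 := m1 _ (by rw [← h, e6])
    simp only [S4, Finset.mem_product, Finset.mem_insert, Finset.mem_singleton]
    exact ⟨a, b, c⟩
  have hinj : Function.Injective (fun σ => (⟨_, hmem σ⟩ : S4)) := by
    rintro ⟨σ, hσ⟩ ⟨τ, hτ⟩ he
    have he' := congrArg Subtype.val he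
    simp only [Prod.mk.injEq] at he'
    obtain ⟨a, b, c⟩ := he'
    have h := hcomm hσ
    have h' := hcomm hτ
    have s1 : σ 1 = τ 1 := by rw [← e0, h, h', a]
    have s2 : σ 2 = τ 2 := by rw [← e1, h, h', s1]
    have s3 : σ 3 = τ 3 := by rw [← e2, h, h', s2]
    have s5 : σ 5 = τ 5 := by rw [← e4, h, h', b]
    refine Subtype.ext (Equiv.ext fun i => ?_)
    show σ i = τ i
    by_cases h7 : i = 7
    · subst h7
      by_contra hne
      obtain ⟨j, hj⟩ := τ.surjective (σ 7)
      have hj7 : j ≠ 7 := fun e => hne (by rw [← hj, e])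
      have : σ j = τ j := by fin_cases j <;> first | exact absurd rfl hj7 | assumption
      exact hj7 (σ.injective (this.trans hj))
    · fin_cases i <;> first | exact absurd rfl h7 | assumption
  have := Nat.card_le_card_of_injective _ hinj
  refine this.trans ?_
  rw [Nat.card_eq_fintype_card, Fintype.card_coe]
  decide +kernel

theorem center_lt_sixteen (P : Sylow 2 (alternatingGroup (Fin 8)))
    (hP : Nat.card (P : Subgroup (alternatingGroup (Fin 8))) = 64)
    (Z : Subgroup (alternatingGroup (Fin 8))) (hZP : Z ≤ (P : Subgroup (alternatingGroup (Fin 8))))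
    (hZ : (P : Subgroup (alternatingGroup (Fin 8))) ≤ centralizer (Z : Set (alternatingGroup (Fin 8)))) :
    Nat.card Z ≠ 16 := by
  classical
  haveI : Fact (Nat.Prime 2) := ⟨Nat.prime_two⟩
  intro h16
  obtain ⟨hs, h4, -⟩ := eightX_spec
  set x : alternatingGroup (Fin 8) := ⟨eightX, Perm.mem_alternatingGroup.2 hs⟩ with hx
  have hx4 : x ^ 4 = 1 := Subtype.ext h4
  have hxP : IsPGroup 2 (zpowers x) := by
    refine IsPGroup.of_card_dvd_pow (n := 2) ?_
    rw [Nat.card_zpowers]
    exact orderOf_dvd_of_pow_eq_one hx4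
  obtain ⟨Q, hQ⟩ := hxP.exists_le_sylow
  obtain ⟨g, hg⟩ := MulAction.exists_smul_eq (alternatingGroup (Fin 8)) P Q
  have hcent : ∀ K : Subgroup (alternatingGroup (Fin 8)),
      K ≤ centralizer ({x} : Set (alternatingGroup (Fin 8))) → Nat.card K ≤ 16 := by
    intro K hK
    refine le_trans ?_ card_centralizer_eightX
    refine Nat.card_le_card_of_injective (fun k => ⟨((k : alternatingGroup (Fin 8)) : Perm (Fin 8)),
      congrArg Subtype.val (mem_centralizer_singleton_iff.1 (hK k.2))⟩) fun a b h => ?_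
    exact Subtype.ext (Subtype.ext (congrArg Subtype.val h :))
  set Z' := Z.map (MulAut.conj g).toMonoidHom with hZ'
  have hZ'c : Nat.card Z' = 16 :=
    (Subgroup.card_map_of_injective (MulAut.conj g).injective).trans h16
  have hQmem : ∀ {q}, q ∈ (Q : Subgroup (alternatingGroup (Fin 8))) →
      g⁻¹ * q * g ∈ (P : Subgroup (alternatingGroup (Fin 8))) := by
    intro q hq
    rw [← hg, Sylow.coe_subgroup_smul, CfsgLib.Coprime.mem_conj_smul] at hq
    exact hq
  have hZ'Q : ∀ q ∈ (Q : Subgroup (alternatingGroup (Fin 8))), ∀ z ∈ Z', q * z = z * q := by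
    rintro q hq _ ⟨z, hz, rfl⟩
    have := (mem_centralizer_iff.1 (hZ (hQmem hq)) z hz)
    show q * (g * z * g⁻¹) = g * z * g⁻¹ * q
    calc q * (g * z * g⁻¹) = g * (g⁻¹ * q * g * z) * g⁻¹ := by group
      _ = g * (z * (g⁻¹ * q * g)) * g⁻¹ := by rw [this]
      _ = _ := by group
  have hxQ : x ∈ (Q : Subgroup (alternatingGroup (Fin 8))) := hQ (mem_zpowers x)
  by_cases hxZ : x ∈ Z'
  · have := hcent (Q : Subgroup (alternatingGroup (Fin 8))) fun q hq =>
      mem_centralizer_singleton_iff.2 (hZ'Q q hq x hxZ)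
    rw [← hg, Sylow.coe_subgroup_smul, CfsgLib.Coprime.card_conj_smul, hP] at this
    omega
  · have h1 := hcent (Z' ⊔ zpowers x) (sup_le (fun z hz =>
      mem_centralizer_singleton_iff.2 (hZ'Q x hxQ z hz).symm)
      (zpowers_le.2 (mem_centralizer_singleton_iff.2 rfl)))
    have heq : Z' = Z' ⊔ zpowers x := eq_of_le_of_card_ge le_sup_left (by omega)
    exact hxZ (heq.ge (mem_sup_right (mem_zpowers x)))

end CfsgLib.StrongTwoClasses
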