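import Mathlib
import Cfsg.Agent.Lib.StrongTwoClasses.Tools

/-!
# The centralizer of an involution modulo that involution
-/

set_option autoImplicit false
set_option linter.style.haveILetI false
set_option linter.unusedSectionVars false

namespace CfsgLib.StrongTwoClasses

open Cfsg Subgroup CfsgLib.Base

universe u

variable {G : Type u} [Group G] [Finite G]

theorem mem_zpowers_of_sq {K : Type*} [Group K] {z : K} (hz : z * z = 1) {x : K}
    (hx : x ∈ zpowers z) : x = 1 ∨ x = z := by
  obtain ⟨k, rfl⟩ := mem_zpowers_iff.1 hx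
  rcases Int.even_or_odd' k with ⟨m, rfl | rfl⟩
  · left; rw [zpow_mul, zpow_two, hz, one_zpow]
  · right; rw [zpow_add, zpow_mul, zpow_two, hz, one_zpow, one_mul, zpow_one]

theorem exists_quot (z : G) (hz : z * z = 1) :
    ∃ (H : Type u) (_ : Group H) (_ : Finite H) (f : ↥(centralizer ({z} : Set G)) →* H),
      Function.Surjective f ∧ ∀ x, f x = 1 ↔ ((x : G) = 1 ∨ (x : G) = z) := by
  set C := centralizer ({z} : Set G) with hC
  have hzC : z ∈ C := mem_centralizer_singleton_iff.2 rfl
  set Z : Subgroup C := zpowers ⟨z, hzC⟩ with hZ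
  have hzz : (⟨z, hzC⟩ : C) * ⟨z, hzC⟩ = 1 := Subtype.ext hz
  haveI hZn : Z.Normal := ⟨fun x hx g => by
    rcases mem_zpowers_of_sq hzz hx with rfl | rfl
    · simp
    · have : g * ⟨z, hzC⟩ * g⁻¹ = (⟨z, hzC⟩ : C) := Subtype.ext (by
        simpa [mul_inv_eq_iff_eq_mul] using mem_centralizer_singleton_iff.1 g.2)
      rw [this]; exact mem_zpowers _⟩
  refine ⟨C ⧸ Z, inferInstance, inferInstance, QuotientGroup.mk' Z, QuotientGroup.mk'_surjective Z,
    fun x => ?_⟩
  rw [QuotientGroup.mk'_apply, QuotientGroup.eq_one_iff]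
  refine ⟨fun h => ?_, ?_⟩
  · rcases mem_zpowers_of_sq hzz h with rfl | rfl
    · exact Or.inl rfl
    · exact Or.inr rfl
  · rintro (h | h)
    · rw [show x = 1 from Subtype.ext h]; exact one_mem _
    · rw [show x = ⟨z, hzC⟩ from Subtype.ext h]; exact mem_zpowers _

/-- An odd subgroup normalised by the preimage of a centralizer maps into its core. -/
theorem map_le_core {H : Type u} [Group H] [Finite H] {C M : Subgroup G} (f : C →* H)
    (hf : Function.Surjective f) (hMC : M ≤ C) (hM : Odd (Nat.card M)) {c : H}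
    (h1 : ∀ y : C, (y : G) ∈ M → f y ∈ centralizer ({c} : Set H))
    (h2 : ∀ l : C, f l ∈ centralizer ({c} : Set H) → (l : G) ∈ normalizer (M : Set G)) :
    (M.subgroupOf C).map f ≤ centralizerPPrimeCore 2 c := by
  refine le_core ?_ ?_ ?_
  · rintro _ ⟨y, hy, rfl⟩; exact h1 y hy
  · intro x hx
    obtain ⟨l, rfl⟩ := hf x
    refine mem_normalizer_of_forall ?_
    rintro _ ⟨y, hy, rfl⟩
    rw [← map_inv, ← map_mul, ← map_mul]
    refine ⟨l * y * l⁻¹, ?_, rfl⟩
    exact mem_subgroupOf.2 ((mem_normalizer_iff.1 (h2 l hx) (y : G)).1 (mem_subgroupOf.1 hy))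
  · have hd : Nat.card ↥((M.subgroupOf C).map f) ∣ Nat.card ↥(M.subgroupOf C) :=
      Subgroup.card_map_dvd _ f
    rw [Nat.card_congr (subgroupOfEquivOfLe hMC).toEquiv] at hd
    exact hM.of_dvd_nat hd

variable {z : G} {H : Type u} [Group H] (f : ↥(centralizer ({z} : Set G)) →* H)
  (hker : ∀ x, f x = 1 ↔ ((x : G) = 1 ∨ (x : G) = z))

include hker in
theorem eq_or_of_map_eq {x y : ↥(centralizer ({z} : Set G))} (h : f x = f y) :
    (y : G) = x ∨ (y : G) = x * z := by
  rcases (hker (x⁻¹ * y)).1 (by rw [map_mul, map_inv, h, inv_mul_cancel]) with e | e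
  · left; exact (inv_mul_eq_one.1 (by simpa using e)).symm
  · right
    have : (x : G)⁻¹ * y = z := by simpa using e
    calc (y : G) = x * ((x : G)⁻¹ * y) := by group
      _ = x * z := by rw [this]

include hker in
theorem isPGroup_ker (hz : z * z = 1) : IsPGroup 2 f.ker := fun x => ⟨1, by
  rcases (hker x).1 (MonoidHom.mem_ker.1 x.2) with e | e <;>
    exact Subtype.ext (Subtype.ext (by simp [sq, e, hz]))⟩

include hker in
theorem ker_le_center : f.ker ≤ center _ := fun x hx => mem_center_iff.2 fun g => Subtype.ext (by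
  rcases (hker x).1 (MonoidHom.mem_ker.1 hx) with e | e <;> simp only [Subgroup.coe_mul, e]
  · simp
  · exact mem_centralizer_singleton_iff.1 g.2)

include hker in
/-- Normality in the quotient gives `Good`. -/
theorem good_of_normal {A : Subgroup G} (hA : A ≤ centralizer ({z} : Set G)) (hzA : z ∈ A)
    (hz : z * z = 1) (hf : Function.Surjective f)
    (h : ((A.subgroupOf (centralizer ({z} : Set G))).map f ⊔ oddCore H).Normal) : Good A z := by
  haveI : Finite H := Finite.of_surjective f hf
  set A' := A.subgroupOf (centralizer ({z} : Set G)) with hA'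
  have hR : A'.map f ⊔ oddCore H = (A' ⊔ oddCore ↥(centralizer ({z} : Set G))).map f := by
    refine le_antisymm (sup_le (map_mono le_sup_left) fun y hy => ?_) ?_
    · obtain ⟨x, rfl⟩ := hf y
      obtain ⟨o, ho, he⟩ := exists_core_lift f hf (isPGroup_ker f hker hz) (ker_le_center f hker) hy
      exact ⟨o, mem_sup_right ho, he⟩
    · rw [Subgroup.map_sup]
      exact sup_le_sup le_rfl (map_pPrimeCore_le f hf)
  have hinto : (A' ⊔ oddCore ↥(centralizer ({z} : Set G))).map (centralizer ({z} : Set G)).subtype ≤ A ⊔ centralizerPPrimeCore 2 z := by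
    rw [Subgroup.map_sup, map_subgroupOf_eq_of_le hA]
    exact le_rfl
  intro g hg
  refine mem_normalizer_of_forall fun x hx => ?_
  rw [← map_subgroupOf_eq_of_le hA, show centralizerPPrimeCore 2 z = (oddCore ↥(centralizer ({z} : Set G))).map (centralizer ({z} : Set G)).subtype from rfl,
    ← Subgroup.map_sup] at hx
  obtain ⟨y, hy, rfl⟩ := hx
  have h1 : f (⟨g, hg⟩ * y * ⟨g, hg⟩⁻¹) ∈ A'.map f ⊔ oddCore H := by
    rw [map_mul, map_mul, map_inv]
    exact h.conj_mem _ (hR ▸ mem_map_of_mem f hy) _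
  rw [hR] at h1
  obtain ⟨y', hy', he⟩ := h1
  have hy'' : (y' : G) ∈ A ⊔ centralizerPPrimeCore 2 z := hinto ⟨y', hy', rfl⟩
  rcases eq_or_of_map_eq f hker he with e | e
  · show g * (y : G) * g⁻¹ ∈ _
    rw [show g * (y : G) * g⁻¹ = y' from e]
    exact hy''
  · show g * (y : G) * g⁻¹ ∈ _
    rw [show g * (y : G) * g⁻¹ = y' * z from e]
    exact mul_mem hy'' (mem_sup_left hzA)

end CfsgLib.StrongTwoClasses
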