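import Mathlib
import Cfsg.Agent.Lib.StrongTwoClasses.Frame
import Cfsg.Agent.Lib.StrongTwoClasses.Quot
import Cfsg.Agent.Lib.Transfer.ThompsonTransfer

/-!
# The centralizer of one of the five points
-/

set_option autoImplicit false
set_option linter.style.haveILetI false
set_option linter.unusedSectionVars false
set_option maxHeartbeats 800000

namespace CfsgLib.StrongTwoClasses

open Cfsg Subgroup CfsgLib.Base

universe u

/-- Adjoining a commuting involution to an elementary abelian 2-group. -/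
theorem elem_sup_zpowers {H : Type*} [Group H] [Finite H] {B : Subgroup H}
    (hB : IsElementaryAbelian 2 B) {t : H} (ht : t * t = 1) (hc : ∀ b ∈ B, t * b = b * t)
    (htB : t ∉ B) :
    IsElementaryAbelian 2 (B ⊔ zpowers t) ∧ Nat.card ↥(B ⊔ zpowers t) = Nat.card B * 2 ∧
      ∀ x ∈ B ⊔ zpowers t, ∃ b ∈ B, x = b ∨ x = b * t := by
  haveI := hB.1
  have cB : ∀ {b c : H}, b ∈ B → c ∈ B → b * c = c * b := fun hb hc =>
    congrArg Subtype.val (mul_comm' (⟨_, hb⟩ : B) ⟨_, hc⟩)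
  have hn : B ≤ normalizer (zpowers t : Set H) := fun b hb => by
    refine mem_normalizer_of_forall fun a ha => ?_
    rcases mem_zpowers_of_sq ht ha with rfl | rfl
    · simp
    · rw [← hc b hb, mul_inv_cancel_right]; exact ha
  have hdec : ∀ x ∈ B ⊔ zpowers t, ∃ b ∈ B, x = b ∨ x = b * t := by
    intro x hx
    obtain ⟨b, hb, a, ha, rfl⟩ := (CfsgLib.Coprime.mem_sup_iff_of_le_normalizer hn).1 hx
    refine ⟨b, hb, ?_⟩
    rcases mem_zpowers_of_sq ht ha with rfl | rfl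
    · exact Or.inl (mul_one b)
    · exact Or.inr rfl
  refine ⟨⟨⟨⟨fun x y => Subtype.ext ?_⟩⟩, fun x hx => ?_⟩, ?_, hdec⟩
  · show (x : H) * y = y * x
    obtain ⟨b, hb, e | e⟩ := hdec x x.2 <;> obtain ⟨c, hc', e' | e'⟩ := hdec y y.2 <;> rw [e, e']
    · exact cB hb hc'
    · rw [← mul_assoc, cB hb hc', mul_assoc c t b, hc b hb, ← mul_assoc]
    · rw [mul_assoc b t c, hc c hc', ← mul_assoc, cB hb hc', mul_assoc]
    · calc b * t * (c * t) = b * (t * c) * t := by group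
        _ = b * c * (t * t) := by rw [hc c hc']; group
        _ = c * b * (t * t) := by rw [cB hb hc']
        _ = c * (t * b) * t := by rw [hc b hb]; group
        _ = _ := by group
  · obtain ⟨b, hb, rfl | rfl⟩ := hdec x hx
    · exact hB.2 _ hb
    · rw [Commute.mul_pow (hc b hb).symm, hB.2 b hb, one_mul, sq, ht]
  · rw [CfsgLib.Coprime.card_sup_of_inf_eq_bot hn]
    · rw [Nat.card_zpowers, orderOf_eq_prime (p := 2) (by rw [sq, ht])
        (fun e => htB (by rw [e]; exact one_mem B))]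
    · rw [eq_bot_iff]
      rintro x ⟨hxB, hxt⟩
      rcases mem_zpowers_of_sq ht hxt with rfl | rfl
      · exact one_mem _
      · exact absurd hxB htB

/-- The even vectors with last coordinate free, in two coordinates. -/
def spanW : ZMod 2 × ZMod 2 →+ V5 where
  toFun ab := ab.1 • (unit5 0 + unit5 1) + ab.2 • (unit5 0 + unit5 2)
  map_zero' := by simp
  map_add' x y := by simp only [Prod.fst_add, Prod.snd_add, add_smul]; abel

theorem evenFour_spanW : ∀ ab : ZMod 2 × ZMod 2,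
    EvenFour (ab.1 • (unit5 0 + unit5 1) + ab.2 • (unit5 0 + unit5 2)) := by decide +kernel

namespace Frame

variable {G : Type u} [Group G] [Finite G] (F : Frame G)

theorem good_point : Good F.A (F.E (unit5 4)) := by
  classical
  haveI : Fact (Nat.Prime 2) := ⟨Nat.prime_two⟩
  set y := F.E (unit5 4) with hy
  have hy2 : y * y = 1 := F.E_sq _
  have hyA : y ∈ F.A := F.E_mem _
  obtain ⟨H, iH, iF, f, hf, hker⟩ := exists_quot y hy2
  have hEC : ∀ v, F.E v ∈ centralizer ({y} : Set G) := fun v =>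
    F.le_centralizer hyA (F.E_mem v)
  have memC : ∀ {n : G} {σ : Equiv.Perm (Fin 5)}, F.Acts n σ → σ 4 = 4 →
      n ∈ centralizer ({y} : Set G) := by
    intro n σ h h4
    have := h (unit5 4)
    rw [pm_unit5, h4, mul_inv_eq_iff_eq_mul] at this
    exact mem_centralizer_singleton_iff.2 this
  have hSC : (F.S : Subgroup G) ≤ centralizer ({y} : Set G) := fun s hs => by
    obtain ⟨σ, hσ, h⟩ := F.S_act s hs
    exact memC h hσ.1
  let fe : Multiplicative V5 →* H :=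
    f.comp (F.e.codRestrict (centralizer ({y} : Set G)) fun m => hEC (Multiplicative.toAdd m))
  let φ : V5 → H := fun v => f ⟨F.E v, hEC v⟩
  have φadd : ∀ v w, φ (v + w) = φ v * φ w := fun v w => by
    show f _ = f _ * f _
    rw [← map_mul]; congr 1; exact Subtype.ext (F.E_add v w)
  have φeqv : ∀ {v w}, Eqv v w → φ v = φ w := fun h => congrArg f (Subtype.ext (F.E_eqv h))
  have φone : ∀ v, φ v = 1 ↔ (Eqv v 0 ∨ Eqv v (unit5 4)) := by
    intro v
    refine (hker _).trans ⟨?_, ?_⟩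
    · rintro (h | h)
      · exact Or.inl (F.e_eq_one v h)
      · exact Or.inr (F.E_inj h)
    · rintro (h | h)
      · exact Or.inl ((F.E_eqv h).trans F.E_zero)
      · exact Or.inr (F.E_eqv h)
  have φy : φ (unit5 4) = 1 := (φone _).2 (Or.inr (eqv_refl _))
  have φsq : ∀ v, φ v * φ v = 1 := fun v => by
    rw [← φadd, vec_add_self]; exact (φone 0).2 (Or.inl (eqv_refl _))
  have φconj : ∀ {n : G} {σ : Equiv.Perm (Fin 5)} (hn : n ∈ centralizer ({y} : Set G)),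
      F.Acts n σ → ∀ v, f ⟨n, hn⟩ * φ v * (f ⟨n, hn⟩)⁻¹ = φ (pm σ v) := by
    intro n σ hn h v
    rw [← map_inv, ← map_mul, ← map_mul]
    exact congrArg f (Subtype.ext (h v))
  -- the involutions outside `A`
  obtain ⟨t₀, ht₀S, ht₀2, ht₀⟩ := F.inv_lift τ₁ isV_τ.1
  obtain ⟨hρs, hρ4, hρ1, hρ2⟩ := ρ₀_spec
  obtain ⟨c, hcA, hcS, hc⟩ := F.lift ρ₀ hρs hρ4
  have hcC := memC hc hρ4
  set t₁ := c * t₀ * c⁻¹ with ht₁d
  set t₂ := c * t₁ * c⁻¹ with ht₂d
  have ht₁ : F.Acts t₁ τ₂ := hρ1 ▸ F.acts_mul (F.acts_mul hc ht₀) (F.acts_inv hc)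
  have ht₂ : F.Acts t₂ τ₃ := hρ2 ▸ F.acts_mul (F.acts_mul hc ht₁) (F.acts_inv hc)
  have ht₁S : t₁ ∈ (F.S : Subgroup G) := (mem_normalizer_iff.1 hcS t₀).1 ht₀S
  have ht₂S : t₂ ∈ (F.S : Subgroup G) := (mem_normalizer_iff.1 hcS t₁).1 ht₁S
  have ht₁2 : t₁ * t₁ = 1 := by
    calc t₁ * t₁ = c * (t₀ * t₀) * c⁻¹ := by rw [ht₁d]; group
      _ = 1 := by rw [ht₀2]; group
  have ht₂2 : t₂ * t₂ = 1 := by
    calc t₂ * t₂ = c * (t₁ * t₁) * c⁻¹ := by rw [ht₂d]; group
      _ = 1 := by rw [ht₁2]; group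
  set a₀ := f ⟨t₀, hSC ht₀S⟩ with ha₀
  set a₁ := f ⟨t₁, hSC ht₁S⟩ with ha₁
  set a₂ := f ⟨t₂, hSC ht₂S⟩ with ha₂
  have ha₀2 : a₀ * a₀ = 1 := by
    rw [ha₀, ← map_mul]; exact (hker _).2 (Or.inl ht₀2)
  have ha₁2 : a₁ * a₁ = 1 := by
    rw [ha₁, ← map_mul]; exact (hker _).2 (Or.inl ht₁2)
  have ha₂2 : a₂ * a₂ = 1 := by
    rw [ha₂, ← map_mul]; exact (hker _).2 (Or.inl ht₂2)
  -- the commutator of two of them
  obtain ⟨τe1, τe2, τ11, τ22, τ33⟩ := τ_mul
  have hprod : F.Acts (t₀ * t₁) τ₃ := τe1 ▸ F.acts_mul ht₀ ht₁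
  have hsA : t₀ * t₁ * (t₀ * t₁) ∈ F.A :=
    F.mem_A_of_acts_one (mul_mem (mul_mem ht₀S ht₁S) (mul_mem ht₀S ht₁S))
      (τ33 ▸ F.acts_mul hprod hprod)
  obtain ⟨vs, hvs⟩ := F.exists_E hsA
  have hvs0 : Eqv vs 0 ∨ Eqv vs (unit5 4) := by
    have hinv : F.E vs = (F.E vs)⁻¹ := (inv_eq_of_mul_eq_one_right (F.E_sq vs)).symm
    refine fix_both vs (F.E_inj ((ht₀ vs).symm.trans ?_)) (F.E_inj ((ht₁ vs).symm.trans ?_))
    · refine Eq.trans ?_ hinv.symm
      show _ * F.E vs * _ = _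
      rw [hvs]
      simp only [mul_inv_rev, inv_eq_of_mul_eq_one_right ht₀2, inv_eq_of_mul_eq_one_right ht₁2,
        ← mul_assoc, ht₀2, one_mul]
    · refine Eq.trans ?_ hinv.symm
      show _ * F.E vs * _ = _
      rw [hvs]
      simp only [mul_inv_rev, inv_eq_of_mul_eq_one_right ht₀2, inv_eq_of_mul_eq_one_right ht₁2,
        mul_assoc, ht₁2, mul_one]
  have h01 : a₀ * a₁ * (a₀ * a₁) = 1 := by
    rw [← (φone vs).2 hvs0, ha₀, ha₁, ← map_mul, ← map_mul]
    exact congrArg f (Subtype.ext hvs.symm)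
  have hcomm : a₁ * a₀ = a₀ * a₁ := by
    rw [← inv_eq_of_mul_eq_one_right h01, mul_inv_rev, inv_eq_of_mul_eq_one_right ha₀2,
      inv_eq_of_mul_eq_one_right ha₁2]
  obtain ⟨vt, hvt⟩ := F.exists_E (F.mem_A_of_acts_one (mul_mem ht₂S (mul_mem ht₀S ht₁S))
    (τ33 ▸ F.acts_mul ht₂ hprod))
  have hvtE : EvenFour vt := by
    refine evenFour_of_square vt ?_
    have e : F.E (pm τ₃ vt + vt) = F.E vs := by
      refine ((F.E_add _ _).trans (congrArg (· * F.E vt) (ht₂ vt).symm)).trans ?_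
      have tt : ∀ x : G, t₂ * (t₂ * x) = x := fun x => by rw [← mul_assoc, ht₂2, one_mul]
      simp only [hvt, hvs, inv_eq_of_mul_eq_one_right ht₂2, mul_assoc, tt]
    rcases hvs0 with h | h
    · exact Or.inl (F.E_inj (e.trans (F.E_eqv h)))
    · exact Or.inr (F.E_inj (e.trans (F.E_eqv h)))
  have ha₂w : a₂ * (a₀ * a₁) = φ vt := by
    rw [ha₀, ha₁, ha₂, ← map_mul, ← map_mul]
    exact congrArg f (Subtype.ext hvt.symm)
  -- the subgroup `W`
  let gW : Multiplicative (ZMod 2 × ZMod 2) →* H := fe.comp spanW.toMultiplicative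
  have hgW : ∀ ab, gW (Multiplicative.ofAdd ab) = φ (spanW ab) := fun ab => rfl
  set W := gW.range with hWd
  have hWcard : Nat.card W = 4 := by
    have hinj : Function.Injective gW := by
      rw [← MonoidHom.ker_eq_bot_iff, eq_bot_iff]
      intro m hm
      obtain ⟨⟨a, b⟩, rfl⟩ := Multiplicative.ofAdd.surjective m
      have h1 := (φone _).1 ((hgW (a, b)).symm.trans hm)
      obtain ⟨rfl, rfl⟩ := span_inj a b h1
      exact one_mem _
    rw [hWd, Nat.card_congr (MonoidHom.ofInjective hinj).toEquiv.symm, Nat.card_congr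
      Multiplicative.toAdd, Nat.card_prod, Nat.card_zmod]
  have memW : ∀ v, EvenFour v → φ v ∈ W := by
    intro v hv
    obtain ⟨a, b, h | h⟩ := evenFour_span v hv
    · exact ⟨Multiplicative.ofAdd (a, b), (hgW (a, b)).trans (φeqv h).symm⟩
    · refine ⟨Multiplicative.ofAdd (a, b), (hgW (a, b)).trans ?_⟩
      rw [φeqv h, φadd _ (unit5 4), φy, mul_one]; rfl
  have repW : ∀ x ∈ W, ∃ v, EvenFour v ∧ φ v = x := by
    rintro _ ⟨m, rfl⟩
    obtain ⟨ab, rfl⟩ := Multiplicative.ofAdd.surjective m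
    exact ⟨spanW ab, evenFour_spanW ab, rfl⟩
  have hcW : ∀ {n : G} {σ : Equiv.Perm (Fin 5)} (hn : n ∈ centralizer ({y} : Set G)),
      F.Acts n σ → IsV σ → ∀ x ∈ W, f ⟨n, hn⟩ * x = x * f ⟨n, hn⟩ := by
    intro n σ hn h hσ x hx
    obtain ⟨v, hv, rfl⟩ := repW x hx
    rw [← mul_inv_eq_iff_eq_mul, φconj hn h v]
    rcases evenFour_even_fix σ hσ v hv with e | e
    · exact φeqv e
    · rw [φeqv e, φadd, φy, mul_one]
  have hWel : IsElementaryAbelian 2 W := by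
    refine ⟨⟨⟨fun x x' => Subtype.ext ?_⟩⟩, fun x hx => ?_⟩
    · obtain ⟨v, -, e⟩ := repW x x.2
      obtain ⟨v', -, e'⟩ := repW x' x'.2
      show (x : H) * x' = x' * x
      rw [← e, ← e', ← φadd, ← φadd, add_comm]
    · obtain ⟨v, -, rfl⟩ := repW x hx
      rw [sq]; exact φsq v
  -- elements of `S` mapping into `W` act trivially
  have notW : ∀ {n : G} {σ : Equiv.Perm (Fin 5)} (hn : n ∈ centralizer ({y} : Set G)),
      F.Acts n σ → f ⟨n, hn⟩ ∈ W → σ = 1 := by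
    intro n σ hn h hW'
    obtain ⟨v, -, e⟩ := repW _ hW'
    refine F.acts_unique h (F.acts_of_mem_A ?_)
    rcases eq_or_of_map_eq f hker e with e' | e'
    · exact (show n = F.E v from e') ▸ F.E_mem v
    · exact (show n = F.E v * y from e') ▸ mul_mem (F.E_mem v) hyA
  obtain ⟨τ1ne, τ2ne, τ3ne, τ12⟩ := τ_ne
  have ha₀W : a₀ ∉ W := fun h => τ1ne (notW _ ht₀ h)
  obtain ⟨hB1el, hB1card, hB1dec⟩ :=
    elem_sup_zpowers hWel ha₀2 (hcW _ ht₀ isV_τ.1) ha₀W
  set B₁ := W ⊔ zpowers a₀ with hB₁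
  have ha₁B : a₁ ∉ B₁ := by
    intro h
    obtain ⟨w, hw, e | e⟩ := hB1dec _ h
    · exact τ2ne (notW _ ht₁ (by rw [← ha₁, e]; exact hw))
    · have h' : f ⟨t₁ * t₀, mul_mem (hSC ht₁S) (hSC ht₀S)⟩ ∈ W := by
        rw [show f ⟨t₁ * t₀, mul_mem (hSC ht₁S) (hSC ht₀S)⟩ = a₁ * a₀ from by
            rw [ha₁, ha₀, ← map_mul]; rfl, e,
          mul_assoc, ha₀2, mul_one]
        exact hw
      exact τ3ne (notW _ (τe2 ▸ F.acts_mul ht₁ ht₀) h')
  have hca₁ : ∀ b ∈ B₁, a₁ * b = b * a₁ := by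
    intro b hb
    obtain ⟨w, hw, rfl | rfl⟩ := hB1dec b hb
    · exact hcW _ ht₁ isV_τ.2.1 _ hw
    · rw [← mul_assoc, ha₁, hcW _ ht₁ isV_τ.2.1 _ hw, ← ha₁, mul_assoc, hcomm, mul_assoc]
  obtain ⟨hBel, hBcard, hBdec⟩ := elem_sup_zpowers hB1el ha₁2 hca₁ ha₁B
  set B := B₁ ⊔ zpowers a₁ with hBd
  rw [hB1card, hWcard] at hBcard
  -- normal form of the elements of `B`
  have repB : ∀ b ∈ B, ∃ v, EvenFour v ∧ ∃ r, ∃ hr : r ∈ centralizer ({y} : Set G),
      r ∈ (F.S : Subgroup G) ∧ ∃ σ, IsV σ ∧ F.Acts r σ ∧ f ⟨r, hr⟩ * f ⟨r, hr⟩ = 1 ∧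
        (σ = 1 → f ⟨r, hr⟩ = 1) ∧ b = φ v * f ⟨r, hr⟩ := by
    intro b hb
    obtain ⟨b₁, hb₁, e₁⟩ := hBdec b hb
    obtain ⟨w, hw, e₀⟩ := hB1dec b₁ hb₁
    obtain ⟨v, hv, rfl⟩ := repW w hw
    refine ⟨v, hv, ?_⟩
    rcases e₁ with rfl | rfl <;> rcases e₀ with rfl | rfl
    · exact ⟨1, one_mem _, one_mem _, 1, by decide, F.acts_of_mem_A (one_mem _),
        by rw [show (⟨1, one_mem _⟩ : centralizer ({y} : Set G)) = 1 from rfl, map_one, one_mul],
        fun _ => map_one f, by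
          rw [show (⟨1, one_mem _⟩ : centralizer ({y} : Set G)) = 1 from rfl, map_one, mul_one]⟩
    · exact ⟨t₀, _, ht₀S, τ₁, isV_τ.1, ht₀, ha₀2, fun e => absurd e τ1ne, rfl⟩
    · exact ⟨t₁, _, ht₁S, τ₂, isV_τ.2.1, ht₁, ha₁2, fun e => absurd e τ2ne, rfl⟩
    · refine ⟨t₀ * t₁, mul_mem (hSC ht₀S) (hSC ht₁S), mul_mem ht₀S ht₁S, τ₃, isV_τ.2.2, hprod, ?_,
        fun e => absurd e τ3ne, ?_⟩
      · rw [show f ⟨t₀ * t₁, mul_mem (hSC ht₀S) (hSC ht₁S)⟩ = a₀ * a₁ from by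
          rw [ha₁, ha₀, ← map_mul]; rfl]
        exact h01
      · rw [show f ⟨t₀ * t₁, mul_mem (hSC ht₀S) (hSC ht₁S)⟩ = a₀ * a₁ from by
          rw [ha₁, ha₀, ← map_mul]; rfl,
          mul_assoc]
  -- conjugates of elements of `A` in the preimage of `B`
  have hclA : ∀ (g : G) (hg : g ∈ centralizer ({y} : Set G)) (v : V5),
      f ⟨g, hg⟩ * φ v * (f ⟨g, hg⟩)⁻¹ ∈ B →
        ∃ w, EvenFour w ∧ g * F.E v * g⁻¹ = F.E w := by
    intro g hg v h
    obtain ⟨w, hw, r, hr, hrS, σ, hσ, hact, -, hone, e⟩ := repB _ h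
    have hm : f ⟨F.E w * r, mul_mem (hEC w) hr⟩ = f (⟨g, hg⟩ * ⟨F.E v, hEC v⟩ * ⟨g, hg⟩⁻¹) := by
      rw [map_mul, map_mul, map_inv]
      exact (map_mul f ⟨F.E w, hEC w⟩ ⟨r, hr⟩).trans e.symm
    have hcl : g * F.E v * g⁻¹ ∈ F.A := by
      refine F.closed _ F.S.2 F.le_S _ (F.E_mem v) g ?_
      rcases eq_or_of_map_eq f hker hm with e' | e'
      · rw [show g * F.E v * g⁻¹ = F.E w * r from e']
        exact mul_mem (F.le_S (F.E_mem w)) hrS
      · rw [show g * F.E v * g⁻¹ = F.E w * r * y from e']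
        exact mul_mem (mul_mem (F.le_S (F.E_mem w)) hrS) (F.le_S hyA)
    have hrA : r ∈ F.A := by
      rcases eq_or_of_map_eq f hker hm with e' | e'
      · have : F.E w * r ∈ F.A := (show g * F.E v * g⁻¹ = F.E w * r from e') ▸ hcl
        simpa using mul_mem (inv_mem (F.E_mem w)) this
      · have : F.E w * r * y ∈ F.A := (show g * F.E v * g⁻¹ = F.E w * r * y from e') ▸ hcl
        simpa [mul_assoc] using mul_mem (mul_mem (inv_mem (F.E_mem w)) this) (inv_mem hyA)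
    rw [hone (F.acts_unique hact (F.acts_of_mem_A hrA)), mul_one] at e
    have h2 : φ w = f (⟨g, hg⟩ * ⟨F.E v, hEC v⟩ * ⟨g, hg⟩⁻¹) := by
      rw [map_mul, map_mul, map_inv]; exact e.symm
    rcases eq_or_of_map_eq f hker h2 with e' | e'
    · exact ⟨w, hw, e'⟩
    · refine ⟨w + unit5 4, evenFour_add _ _ hw evenFour_facts.1, ?_⟩
      rw [F.E_add]; exact e'
  -- transfer
  set u := φ (unit5 0) with hud
  have hu0 := unit0_ne
  have hu1 : u ≠ 1 := fun e => ((φone _).1 e).elim hu0.1 hu0.2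
  set T := ((F.S : Subgroup G).subgroupOf (centralizer ({y} : Set G))).map f with hT
  have hT2 : IsPGroup 2 T := F.S.2.comap_subtype.map f
  have hTmax : ¬ 2 ∣ T.index := fun h =>
    F.S.not_dvd_index ((h.trans (index_map_dvd _ hf)).trans (relIndex_dvd_index_of_le hSC))
  have hT32 : Nat.card T * 2 = 64 := by
    have hk : Nat.card f.ker = 2 := by
      have hyC : y ∈ centralizer ({y} : Set G) := hEC _
      have hyne : (⟨y, hyC⟩ : centralizer ({y} : Set G)) ≠ 1 := fun e =>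
        F.E_ne_one cls_facts.2.2.1 (congrArg Subtype.val e)
      have hke : f.ker = zpowers ⟨y, hyC⟩ := by
        refine le_antisymm (fun x hx => ?_) (zpowers_le.2 ((hker _).2 (Or.inr rfl)))
        rcases (hker x).1 hx with e | e
        · rw [show x = 1 from Subtype.ext e]; exact one_mem _
        · rw [show x = ⟨y, hyC⟩ from Subtype.ext e]; exact mem_zpowers _
      rw [hke, Nat.card_zpowers]
      exact orderOf_eq_prime (by rw [sq]; exact Subtype.ext hy2) hyne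
    have hkS : f.ker ≤ (F.S : Subgroup G).subgroupOf (centralizer ({y} : Set G)) := fun x hx => by
      rcases (hker x).1 hx with e | e <;> rw [mem_subgroupOf, e]
      · exact one_mem _
      · exact F.le_S hyA
    have h1 : f.ker.relIndex ((F.S : Subgroup G).subgroupOf (centralizer ({y} : Set G))) =
        Nat.card T := by
      rw [← MonoidHom.comap_bot, relIndex_comap, relIndex_bot_left, hT]
    calc Nat.card T * 2 = Nat.card f.ker *
          f.ker.relIndex ((F.S : Subgroup G).subgroupOf (centralizer ({y} : Set G))) := by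
          rw [h1, hk, mul_comm]
      _ = _ := by
        rw [← relIndex_bot_left, relIndex_mul_relIndex _ _ _ bot_le hkS, relIndex_bot_left,
          Nat.card_congr (subgroupOfEquivOfLe hSC).toEquiv, F.card_S]
  let P : Sylow 2 H := hT2.toSylow hTmax
  have hBT : B ≤ T := by
    intro b hb
    obtain ⟨v, hv, r, hr, hrS, σ, hσ, -, -, -, rfl⟩ := repB b hb
    exact mul_mem ⟨⟨F.E v, hEC v⟩, F.le_S (F.E_mem v), rfl⟩ ⟨⟨r, hr⟩, hrS, rfl⟩
  have hBrel : B.relIndex T = 2 := by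
    have h1 : B.relIndex T * Nat.card B = Nat.card T := by
      rw [mul_comm, ← relIndex_bot_left, ← relIndex_bot_left,
        relIndex_mul_relIndex _ _ _ bot_le hBT]
    rw [hBcard] at h1
    omega
  obtain ⟨M, hMn, hMi, huM⟩ := CfsgLib.Transfer.exists_index_two_of_not_conj_mem P hBT hBrel
    (orderOf_eq_prime (p := 2) (by rw [sq]; exact φsq _) hu1) (fun h hh => by
      obtain ⟨g, rfl⟩ := hf h
      obtain ⟨w, hw, e⟩ := hclA g g.2 (unit5 0) hh
      have hcl := F.conj_cls _ _ g e cls_facts.2.2.2.2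
      rw [cls_unit] at hcl
      have e1 : (g : G) * F.E (unit5 0) * (g : G)⁻¹ = y :=
        e.trans (F.E_eqv (evenFour_cls w hw hcl.symm))
      have e2 : (g : G) * y * (g : G)⁻¹ = y := by
        rw [mul_inv_eq_iff_eq_mul]
        exact mem_centralizer_singleton_iff.1 g.2
      exact hu0.2 (F.E_inj (v := unit5 0) (w := unit5 4)
          (mul_left_cancel (mul_right_cancel (e1.trans e2.symm)))))
  haveI := hMn
  have hiM : ∀ i : Fin 5, i ≠ 4 → φ (unit5 i) ∉ M := by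
    intro i hi h
    obtain ⟨σ, hσs, hσ4, hσ0⟩ := exists_even_move i hi
    obtain ⟨n, -, -, hn⟩ := F.lift σ hσs hσ4
    refine huM ?_
    have h1 : f ⟨n, memC hn hσ4⟩ * u * (f ⟨n, memC hn hσ4⟩)⁻¹ ∈ M := by
      rw [hud, φconj _ hn, pm_unit5, hσ0]; exact h
    have h2 := hMn.conj_mem _ h1 (f ⟨n, memC hn hσ4⟩)⁻¹
    simpa [mul_assoc] using h2
  have h2mem : ∀ {a b : H}, a ∉ M → b ∉ M → a * b ∈ M := fun ha hb =>
    (mul_mem_iff_of_index_two hMi).2 (iff_of_false ha hb)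
  have hgen : ∀ ab : ZMod 2 × ZMod 2, φ (spanW ab) ∈ M := by
    have h01' : φ (unit5 0 + unit5 1) ∈ M := by
      rw [φadd]; exact h2mem (hiM 0 (by decide)) (hiM 1 (by decide))
    have h02' : φ (unit5 0 + unit5 2) ∈ M := by
      rw [φadd]; exact h2mem (hiM 0 (by decide)) (hiM 2 (by decide))
    have hsm : ∀ (a : ZMod 2) (v : V5), φ v ∈ M → φ (a • v) ∈ M := by
      intro a v hv
      rcases zmod2_cases a with rfl | rfl
      · rw [zero_smul, (φone 0).2 (Or.inl (eqv_refl _))]; exact one_mem _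
      · rwa [one_smul]
    intro ab
    show φ (_ + _) ∈ M
    rw [φadd]
    exact mul_mem (hsm _ _ h01') (hsm _ _ h02')
  have hWM : W ≤ M := by
    rintro _ ⟨m, rfl⟩
    obtain ⟨ab, rfl⟩ := Multiplicative.ofAdd.surjective m
    exact hgen ab
  have ha₀M : a₀ ∈ M := by
    by_contra h0
    have e1 : a₁ = f ⟨c, hcC⟩ * a₀ * (f ⟨c, hcC⟩)⁻¹ := by
      rw [ha₀, ha₁, ← map_inv, ← map_mul, ← map_mul]; rfl
    have e2 : a₂ = f ⟨c, hcC⟩ * a₁ * (f ⟨c, hcC⟩)⁻¹ := by
      rw [ha₁, ha₂, ← map_inv, ← map_mul, ← map_mul]; rfl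
    have h1 : a₁ ∉ M := fun h => h0 (by
      simpa [e1, mul_assoc] using hMn.conj_mem _ h (f ⟨c, hcC⟩)⁻¹)
    have h2 : a₂ ∉ M := fun h => h1 (by
      simpa [e2, mul_assoc] using hMn.conj_mem _ h (f ⟨c, hcC⟩)⁻¹)
    exact h2 ((mul_mem_cancel_right (h2mem h0 h1)).1 (by rw [ha₂w]; exact hWM (memW _ hvtE)))
  have ha₁M : a₁ ∈ M := by
    have := hMn.conj_mem _ ha₀M (f ⟨c, hcC⟩)
    rw [ha₀, ← map_inv, ← map_mul, ← map_mul] at this
    exact this
  have hBM : B ≤ M := sup_le (sup_le hWM (zpowers_le.2 ha₀M)) (zpowers_le.2 ha₁M)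
  have hBmax : ¬ 2 ∣ B.relIndex M := by
    intro h
    have e1 : B.relIndex M * 2 = B.index := hMi ▸ relIndex_mul_index hBM
    have e2 : B.relIndex T * T.index = B.index := relIndex_mul_index hBT
    rw [hBrel] at e2
    exact hTmax (by omega)
  have huW : ∀ w ∈ W, u * w * u = w := by
    intro w hw
    obtain ⟨v, -, rfl⟩ := repW w hw
    rw [hud, ← φadd, ← φadd, add_right_comm, vec_add_self, zero_add]
  have hψ : ∀ b ∈ B, ∀ v r, ∀ hr : r ∈ centralizer ({y} : Set G), ∀ σ, F.Acts r σ →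
      f ⟨r, hr⟩ * f ⟨r, hr⟩ = 1 → b = φ v * f ⟨r, hr⟩ →
        u * b * u * b = φ (unit5 0 + v + pm σ (unit5 0 + v)) := by
    intro b _ v r hr σ hact hr2 hb
    rw [hb, hud, φadd _ (pm σ _), ← φconj hr hact, φadd,
      inv_eq_of_mul_eq_one_right hr2]
    simp only [mul_assoc, hr2, mul_one]
  have huB : ∀ b ∈ B, u * b * u * b ∈ W := by
    intro b hb
    obtain ⟨v, hv, r, hr, -, σ, hσ, hact, hr2, -, e⟩ := repB b hb
    rw [hψ b hb v r hr σ hact hr2 e]
    exact memW _ (comm_even σ hσ v hv)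
  have hψ1 : ∀ b ∈ B, u * b * u = b → b ∈ W := by
    intro b hb hbu
    obtain ⟨v, hv, r, hr, -, σ, hσ, hact, hr2, hone, e⟩ := repB b hb
    have h1 := hψ b hb v r hr σ hact hr2 e
    rw [hbu, ← sq, hBel.2 b hb] at h1
    have hσ1 : σ = 1 := comm_ne σ hσ v hv ((φone _).1 h1.symm)
    rw [e, hone hσ1, mul_one]
    exact memW v hv
  have hclW : ∀ w ∈ W, ∀ g : H, g * w * g⁻¹ ∈ B → g * w * g⁻¹ ∈ W := by
    intro w hw h hh
    obtain ⟨g, rfl⟩ := hf h
    obtain ⟨v, -, rfl⟩ := repW w hw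
    obtain ⟨w', hw', e⟩ := hclA g g.2 v hh
    rw [← map_inv, ← map_mul, ← map_mul,
      show g * ⟨F.E v, hEC v⟩ * g⁻¹ = (⟨F.E w', hEC w'⟩ : centralizer ({y} : Set G)) from
        Subtype.ext e]
    exact memW w' hw'
  have hR := index_two_step M hMi hBM hBel (by omega)
    (le_sup_left.trans le_sup_left) hWcard huM (φsq _) hBmax huW huB hψ1 hclW
  refine good_of_normal f hker (F.le_centralizer hyA) hyA hy2 hf ?_
  have hAeq : (F.A.subgroupOf (centralizer ({y} : Set G))).map f = W ⊔ zpowers u := by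
    refine le_antisymm ?_ (sup_le ?_ ?_)
    · rintro _ ⟨⟨a, haC⟩, ha, rfl⟩
      obtain ⟨v, rfl⟩ := F.exists_E (mem_subgroupOf.1 ha)
      rcases evenFour_or v with hv | hv
      · exact mem_sup_left (memW v hv)
      · have e : φ v = φ (v + unit5 0) * u := by
          rw [hud, ← φadd, add_assoc, vec_add_self, add_zero]
        show φ v ∈ _
        rw [e]
        exact mul_mem (mem_sup_left (memW _ hv)) (mem_sup_right (mem_zpowers u))
    · intro w hw
      obtain ⟨v, -, rfl⟩ := repW w hw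
      exact ⟨⟨F.E v, hEC v⟩, F.E_mem v, rfl⟩
    · exact zpowers_le.2 ⟨⟨F.E (unit5 0), hEC _⟩, F.E_mem _, rfl⟩
  rwa [hAeq]

end Frame

end CfsgLib.StrongTwoClasses
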