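import Mathlib
import Cfsg.Agent.Lib.StrongTwoClasses.Point

/-!
# The centralizer of a product of two points, and the conclusion
-/

set_option autoImplicit false
set_option linter.style.haveILetI false
set_option linter.unusedSectionVars false
set_option maxHeartbeats 800000

namespace CfsgLib.StrongTwoClasses

open Cfsg Subgroup CfsgLib.Base

universe u

namespace Frame

variable {G : Type u} [Group G] [Finite G] (F : Frame G)

theorem good_unit (i : Fin 5) : Good F.A (F.E (unit5 i)) := by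
  obtain ⟨σ, hs, h4⟩ := exists_even_to i
  obtain ⟨n, hnA, hn⟩ := F.lift_all σ hs
  have h := F.good_point.conj hnA
  have e : n * F.E (unit5 4) * n⁻¹ = F.E (unit5 i) := by
    rw [show n * F.E (unit5 4) * n⁻¹ = F.E (pm σ (unit5 4)) from hn _, pm_unit5, h4]
  rwa [e] at h

theorem good_cls {v : V5} (hv : ¬ Eqv v 0) (hc : cls v = true) : Good F.A (F.E v) := by
  rcases cases_cls v hv with ⟨-, i, hi⟩ | ⟨h, -⟩
  · rw [F.E_eqv hi]; exact F.good_unit i
  · rw [hc] at h; exact absurd h (by decide)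

theorem not_eqv_symm {v w : V5} (h : ¬ Eqv v w) : F.E v ≠ F.E w := fun e => h (F.E_inj e)

/-- The centralizer of a four-group of `A` containing the pair. -/
theorem exists_mul_pair {z : G} (hz : z = F.E pair34) {v : V5} (hv0 : ¬ Eqv v 0)
    (hvz : ¬ Eqv v pair34) {g : G}
    (hgz : g ∈ centralizer ({z} : Set G)) (hgv : g ∈ centralizer ({F.E v} : Set G)) :
    ∃ o ∈ (oddCore ↥(centralizer ({z, F.E v} : Set G))).map
        (centralizer ({z, F.E v} : Set G)).subtype,
      ∃ n ∈ normalizer (F.A : Set G), g = o * n := by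
  haveI : Fact (Nat.Prime 2) := ⟨Nat.prime_two⟩
  set b := F.E v with hb
  set K := centralizer ({z, b} : Set G) with hK
  have hmem : ∀ {x : G}, x ∈ K ↔ x * z = z * x ∧ x * b = b * x := by
    intro x
    rw [hK, mem_centralizer_iff]
    refine ⟨fun h => ⟨(h z (Set.mem_insert _ _)).symm, (h b (by simp)).symm⟩, fun h y hy => ?_⟩
    rcases hy with rfl | hy
    · exact h.1.symm
    · rw [Set.mem_singleton_iff.1 hy]; exact h.2.symm
  have hgK : g ∈ K :=
    hmem.2 ⟨mem_centralizer_singleton_iff.1 hgz, mem_centralizer_singleton_iff.1 hgv⟩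
  have hAK : F.A ≤ K := fun a ha => hmem.2
    ⟨mem_centralizer_singleton_iff.1 (F.le_centralizer (hz ▸ F.E_mem _) ha),
      mem_centralizer_singleton_iff.1 (F.le_centralizer (F.E_mem _) ha)⟩
  by_cases hw : ∃ w : V5, ¬ Eqv w 0 ∧ cls w = true ∧ K ≤ centralizer ({F.E w} : Set G)
  · obtain ⟨w, hw0, hwc, hKw⟩ := hw
    set O := centralizerPPrimeCore 2 (F.E w) ⊓ K with hO
    have hAn : F.A ≤ normalizer (centralizerPPrimeCore 2 (F.E w) : Set G) :=
      (hAK.trans hKw).trans (centralizer_le_normalizer_core _)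
    obtain ⟨o, ho, n, hn, he⟩ := exists_mul_of_conj_le (O := O) F.isPGroup_A
      (Odd.of_dvd_nat (odd_card_core (F.E w)) (card_dvd_of_le inf_le_left))
      (CfsgLib.Coprime.le_normalizer_inf_inf hAn (hAK.trans le_normalizer)) (g := g) (by
        intro a ha
        have h1 : g * a * g⁻¹ ∈ F.A ⊔ centralizerPPrimeCore 2 (F.E w) :=
          (mem_normalizer_iff.1 (F.good_cls hw0 hwc (hKw hgK)) a).1 (mem_sup_left ha)
        obtain ⟨a', ha', o, ho, e⟩ :=
          (CfsgLib.Coprime.mem_sup_iff_of_le_normalizer hAn).1 h1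
        refine e ▸ mul_mem (mem_sup_left ha') (mem_sup_right ⟨ho, ?_⟩)
        have : o = a'⁻¹ * (g * a * g⁻¹) := by rw [← e, inv_mul_cancel_left]
        show o ∈ K
        rw [this]
        exact mul_mem (inv_mem (hAK ha')) (mul_mem (mul_mem hgK (hAK ha)) (inv_mem hgK)))
    refine ⟨o, le_map_pPrimeCore (M := O) (K := K) inf_le_right ?_ ?_ ho, n, hn, he⟩
    · exact CfsgLib.Coprime.le_normalizer_inf_inf (hKw.trans (centralizer_le_normalizer_core _))
        le_normalizer
    · exact Nat.coprime_two_right.2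
        (Odd.of_dvd_nat (odd_card_core (F.E w)) (card_dvd_of_le inf_le_left))
  · -- no point in the four-group
    push Not at hw
    have hcv : cls v = false := by
      by_contra h
      exact hw v hv0 (by simpa using h) fun x hx =>
        mem_centralizer_singleton_iff.2 (hmem.1 hx).2
    have hcvz : cls (v + pair34) = false := by
      by_contra h
      refine hw (v + pair34) (fun e => hvz ?_) (by simpa using h) fun x hx =>
        mem_centralizer_singleton_iff.2 ?_
      · rcases e with e | e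
        · left
          calc v = v + (pair34 + pair34) := by rw [vec_add_self, add_zero]
            _ = pair34 := by rw [← add_assoc, e, zero_add]
        · right
          calc v = v + (pair34 + pair34) := by rw [vec_add_self, add_zero]
            _ = pair34 + one5 := by rw [← add_assoc, e, zero_add, add_comm]
      · rw [F.E_add, ← hb, ← hz, ← mul_assoc, (hmem.1 hx).2, mul_assoc, (hmem.1 hx).1, mul_assoc]
    have hcent : ∀ n ∈ K, n ∈ normalizer (F.A : Set G) → ∀ a ∈ F.A, n * a * n⁻¹ = a := by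
      intro n hnK hn
      obtain ⟨σ, hs, hact⟩ := F.act n hn
      have hσ : σ = 1 := triangle v hv0 hvz hcv hcvz σ hs
        (F.E_inj ((hact v).symm.trans (mul_inv_eq_iff_eq_mul.2 (hmem.1 hnK).2)))
        (F.E_inj ((hact pair34).symm.trans (show n * F.E pair34 * n⁻¹ = F.E pair34 by
          rw [← hz, mul_inv_eq_iff_eq_mul]; exact (hmem.1 hnK).1)))
      subst hσ
      exact F.centralizes_of_acts_one hact
    let P : Sylow 2 K := (F.isPGroup_A.comap_subtype (K := K)).toSylow
      (F.sylow_of_centralizes hAK hcent)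
    have hP : normalizer ((P : Subgroup K) : Set K) ≤ centralizer ((P : Subgroup K) : Set K) := by
      intro n hn
      have hn' : (n : G) ∈ normalizer (F.A : Set G) := mem_normalizer_of_forall fun a ha =>
        mem_subgroupOf.1 ((mem_normalizer_iff.1 hn ⟨a, hAK ha⟩).1 (mem_subgroupOf.2 ha))
      exact mem_centralizer_iff.2 fun c hc => Subtype.ext
        (mul_inv_eq_iff_eq_mul.1 (hcent n n.2 hn' c (mem_subgroupOf.1 hc))).symm
    let N := (MonoidHom.transferSylow P hP).ker
    have hN : N.IsComplement' (P : Subgroup K) :=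
      MonoidHom.ker_transferSylow_isComplement' P hP
    have hNodd : Odd (Nat.card N) := by
      rw [← hN.index_eq_card, ← Nat.not_even_iff_odd, even_iff_two_dvd]
      exact P.not_dvd_index
    obtain ⟨⟨⟨o, ho⟩, ⟨f, hf⟩⟩, he⟩ := hN.2 ⟨g, hgK⟩
    exact ⟨o, ⟨o, le_oddCore hNodd ho, rfl⟩, f, Subgroup.le_normalizer (mem_subgroupOf.1 hf),
      (congrArg Subtype.val he).symm⟩


/-- Local factorisation modulo the pair. -/
theorem loc_pair {z : G} (hz : z = F.E pair34) {H : Type u} [Group H] [Finite H]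
    (f : ↥(centralizer ({z} : Set G)) →* H) (hf : Function.Surjective f)
    (hker : ∀ x, f x = 1 ↔ ((x : G) = 1 ∨ (x : G) = z)) :
    ∀ b ∈ (F.A.subgroupOf (centralizer ({z} : Set G))).map f, b ≠ 1 →
      ∀ g ∈ centralizer ({b} : Set H), ∃ o ∈ centralizerPPrimeCore 2 b,
        ∃ n ∈ normalizer ((F.A.subgroupOf (centralizer ({z} : Set G))).map f : Set H) ⊓
            centralizer ({b} : Set H), g = o * n := by
  haveI : Fact (Nat.Prime 2) := ⟨Nat.prime_two⟩
  have hAC : F.A ≤ centralizer ({z} : Set G) := F.le_centralizer (hz ▸ F.E_mem _)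
  set B := (F.A.subgroupOf (centralizer ({z} : Set G))).map f with hB
  have repB : ∀ x ∈ B, ∃ v, ∃ hv : F.E v ∈ centralizer ({z} : Set G), f ⟨F.E v, hv⟩ = x := by
    rintro _ ⟨⟨a, haC⟩, ha, rfl⟩
    obtain ⟨v, rfl⟩ := F.exists_E (mem_subgroupOf.1 ha)
    exact ⟨v, haC, rfl⟩
  intro x hx hx1 h hh
  obtain ⟨g, rfl⟩ := hf h
  obtain ⟨v, hv, rfl⟩ := repB x hx
  have hv0 : ¬ Eqv v 0 := fun e => hx1 ((hker _).2 (Or.inl ((F.E_eqv e).trans F.E_zero)))
  have hvz : ¬ Eqv v pair34 := fun e => hx1 ((hker _).2 (Or.inr ((F.E_eqv e).trans hz.symm)))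
  set b := F.E v with hb
  set K := centralizer ({z, b} : Set G) with hK
  set L := ((centralizer ({f ⟨b, hv⟩} : Set H)).comap f).map
    (centralizer ({z} : Set G)).subtype with hL
  have hLz : L ≤ centralizer ({z} : Set G) := map_subtype_le _
  have hLb : ∀ l ∈ L, l * b * l⁻¹ = b ∨ l * b * l⁻¹ = b * z := by
    rintro _ ⟨l, hl, rfl⟩
    have := mem_centralizer_singleton_iff.1 (mem_comap.1 hl)
    rw [← mul_inv_eq_iff_eq_mul, ← map_inv, ← map_mul, ← map_mul] at this
    exact eq_or_of_map_eq f hker this.symm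
  have hmK : ∀ {x : G}, x ∈ K ↔ x * z = z * x ∧ x * b = b * x := by
    intro x
    rw [hK, mem_centralizer_iff]
    refine ⟨fun h => ⟨(h z (Set.mem_insert _ _)).symm, (h b (by simp)).symm⟩, fun h y hy => ?_⟩
    rcases hy with rfl | hy
    · exact h.1.symm
    · rw [Set.mem_singleton_iff.1 hy]; exact h.2.symm
  have hLK : L ≤ normalizer (K : Set G) := fun l hl => by
    refine mem_normalizer_of_forall fun k hk => ?_
    have lz : l * z = z * l := mem_centralizer_singleton_iff.1 (hLz hl)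
    have lzi : l⁻¹ * z * l = z := by rw [mul_assoc, ← lz, inv_mul_cancel_left]
    obtain ⟨kz, kb⟩ := hmK.1 hk
    have hcz : l * k * l⁻¹ * z = z * (l * k * l⁻¹) := by
      calc l * k * l⁻¹ * z = l * (k * (l⁻¹ * z * l)) * l⁻¹ := by group
        _ = l * (z * k) * l⁻¹ := by rw [lzi, kz]
        _ = (l * z) * k * l⁻¹ := by group
        _ = _ := by rw [lz]; group
    refine hmK.2 ⟨hcz, ?_⟩
    have hkl : Commute k (l⁻¹ * b * l) := by
      rcases hLb l⁻¹ (inv_mem hl) with e | e <;> rw [inv_inv] at e <;> rw [e]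
      · exact kb
      · exact Commute.mul_right kb kz
    calc l * k * l⁻¹ * b = l * (k * (l⁻¹ * b * l)) * l⁻¹ := by group
      _ = l * ((l⁻¹ * b * l) * k) * l⁻¹ := by rw [hkl.eq]
      _ = _ := by group
  have hgL : (g : G) ∈ L := ⟨g, hh, rfl⟩
  have hAK : F.A ≤ K := fun a ha => hmK.2
    ⟨mem_centralizer_singleton_iff.1 (hAC ha),
      mem_centralizer_singleton_iff.1 (F.le_centralizer (F.E_mem v) ha)⟩
  obtain ⟨U, hAU, hUK, hU, hUmax⟩ := exists_twoGroup_ge F.isPGroup_A hAK
  have hV : IsPGroup 2 ↥(F.A.map (MulAut.conj (g : G)).toMonoidHom) := F.isPGroup_A.map _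
  have hVK : F.A.map (MulAut.conj (g : G)).toMonoidHom ≤ K := by
    rintro _ ⟨a, ha, rfl⟩
    exact (mem_normalizer_iff.1 (hLK hgL) a).1 (hAK ha)
  obtain ⟨k, hk, hkV⟩ := CfsgLib.Transfer.exists_conj_le_of_isPGroup hU hUK hUmax hV hVK
  have hn0 : k⁻¹ * g ∈ normalizer (F.A : Set G) := mem_normalizer_of_forall fun a ha => by
    have h1 := hkV ((g : G) * a * (g : G)⁻¹) ⟨a, ha, rfl⟩
    exact mem_of_closedTwo F.closed hU hAU ha (g := k⁻¹ * (g : G)) rfl
      (by rwa [show k⁻¹ * (g : G) * a * (k⁻¹ * (g : G))⁻¹ = k⁻¹ * ((g : G) * a * (g : G)⁻¹) * k by group])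
  obtain ⟨o, ho, n₁, hn₁, rfl⟩ := F.exists_mul_pair hz hv0 hvz
    (mem_centralizer_singleton_iff.2 (hmK.1 hk).1) (mem_centralizer_singleton_iff.2 (hmK.1 hk).2)
  set n := n₁ * ((o * n₁)⁻¹ * (g : G)) with hn
  have hnN : n ∈ normalizer (F.A : Set G) := mul_mem hn₁ hn0
  have hgo : (g : G) = o * n := by rw [hn]; group
  set θK := (oddCore K).map K.subtype with hθK
  have hKL : K ≤ L := fun x hx => by
    obtain ⟨xz, xb⟩ := hmK.1 hx
    refine ⟨⟨x, mem_centralizer_singleton_iff.2 xz⟩, ?_, rfl⟩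
    rw [SetLike.mem_coe, mem_comap, mem_centralizer_singleton_iff, ← map_mul, ← map_mul]
    exact congrArg f (Subtype.ext xb)
  have hoK : o ∈ K := map_subtype_le _ ho
  have hoC : o ∈ centralizer ({z} : Set G) := hLz (hKL hoK)
  have hnC : n ∈ centralizer ({z} : Set G) := by
    rw [show n = o⁻¹ * (g : G) by rw [hgo]; group]
    exact mul_mem (inv_mem hoC) g.2
  have hfe : f g = f ⟨o, hoC⟩ * f ⟨n, hnC⟩ := by
    rw [← map_mul]; exact congrArg f (Subtype.ext hgo)
  have hθ : (θK.subgroupOf (centralizer ({z} : Set G))).map f ≤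
      centralizerPPrimeCore 2 (f ⟨b, hv⟩) := by
    have hθL : θK ≤ L := (map_subtype_le _).trans hKL
    refine map_le_core f hf (hθL.trans hLz) ?_ ?_ ?_
    · exact Nat.coprime_two_right.1 (coprime_card_map_pPrimeCore K)
    · intro y hy
      obtain ⟨y', hy', e⟩ := hθL hy
      rw [← show y' = y from Subtype.ext e]
      exact hy'
    · intro l hc
      exact normalizer_le_normalizer_map_subtype K (oddCore K) (hLK ⟨l, hc, rfl⟩)
  have hfo : f ⟨o, hoC⟩ ∈ centralizerPPrimeCore 2 (f ⟨b, hv⟩) := hθ ⟨⟨o, hoC⟩, ho, rfl⟩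
  refine ⟨_, hfo, f ⟨n, hnC⟩, ⟨?_, ?_⟩, hfe⟩
  · refine mem_normalizer_of_forall ?_
    rintro _ ⟨a, ha, rfl⟩
    rw [← map_inv, ← map_mul, ← map_mul]
    exact ⟨_, (mem_normalizer_iff.1 hnN _).1 ha, rfl⟩
  · rw [show f ⟨n, hnC⟩ = (f ⟨o, hoC⟩)⁻¹ * f g by rw [hfe, inv_mul_cancel_left]]
    show _ ∈ centralizer ({f ⟨b, hv⟩} : Set H)
    exact mul_mem (inv_mem (centralizerPPrimeCore_le _ hfo)) hh

theorem good_pair : Good F.A (F.E pair34) := by
  haveI : Fact (Nat.Prime 2) := ⟨Nat.prime_two⟩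
  set z := F.E pair34 with hz
  have hz2 : z * z = 1 := F.E_sq _
  have hzA : z ∈ F.A := F.E_mem _
  have hAC : F.A ≤ centralizer ({z} : Set G) := F.le_centralizer hzA
  obtain ⟨H, iH, iF, f, hf, hker⟩ := exists_quot z hz2
  set A' := F.A.subgroupOf (centralizer ({z} : Set G)) with hA'
  set B := A'.map f with hB
  have hkA : f.ker ≤ A' := fun x hx => by
    rcases (hker x).1 hx with e | e <;> rw [hA', mem_subgroupOf, e]
    · exact one_mem _
    · exact hzA
  have repB : ∀ x ∈ B, ∃ v, ∃ hv : F.E v ∈ centralizer ({z} : Set G), f ⟨F.E v, hv⟩ = x := by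
    rintro _ ⟨⟨a, haC⟩, ha, rfl⟩
    obtain ⟨v, rfl⟩ := F.exists_E (mem_subgroupOf.1 ha)
    exact ⟨v, haC, rfl⟩
  have hmemB : ∀ v, f ⟨F.E v, hAC (F.E_mem v)⟩ ∈ B := fun v => ⟨_, F.E_mem v, rfl⟩
  have hcardB : Nat.card B * 2 = 16 := by
    have hk : Nat.card f.ker = 2 := by
      have hzne : (⟨z, hAC hzA⟩ : centralizer ({z} : Set G)) ≠ 1 := fun e =>
        F.E_ne_one pair_two_classes.2.2.2.2.2.2.2.2.2.1 (congrArg Subtype.val e)
      have hke : f.ker = zpowers ⟨z, hAC hzA⟩ := by
        refine le_antisymm (fun x hx => ?_) (zpowers_le.2 ((hker _).2 (Or.inr rfl)))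
        rcases (hker x).1 hx with e | e
        · rw [show x = 1 from Subtype.ext e]; exact one_mem _
        · rw [show x = ⟨z, hAC hzA⟩ from Subtype.ext e]; exact mem_zpowers _
      rw [hke, Nat.card_zpowers]
      exact orderOf_eq_prime (by rw [sq]; exact Subtype.ext hz2) hzne
    have h1 : f.ker.relIndex A' = Nat.card B := by
      rw [← MonoidHom.comap_bot, relIndex_comap, relIndex_bot_left, hB]
    calc Nat.card B * 2 = Nat.card f.ker * f.ker.relIndex A' := by rw [h1, hk, mul_comm]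
      _ = _ := by
        rw [← relIndex_bot_left, relIndex_mul_relIndex _ _ _ bot_le hkA, relIndex_bot_left,
          Nat.card_congr (subgroupOfEquivOfLe hAC).toEquiv, F.card_A]
  have helem : IsElementaryAbelian 2 B := by
    refine ⟨⟨⟨fun x x' => Subtype.ext ?_⟩⟩, fun x hx => ?_⟩
    · obtain ⟨v, hv, e⟩ := repB x x.2
      obtain ⟨v', hv', e'⟩ := repB x' x'.2
      show (x : H) * x' = x' * x
      rw [← e, ← e', ← map_mul, ← map_mul]
      exact congrArg f (Subtype.ext (by
        show F.E v * F.E v' = F.E v' * F.E v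
        rw [← F.E_add, ← F.E_add, add_comm]))
    · obtain ⟨v, hv, rfl⟩ := repB x hx
      rw [sq, ← map_mul]
      exact (hker _).2 (Or.inl (F.E_sq v))
  have hclosed : ClosedTwo B := by
    intro P hP hBP x hx h hh
    obtain ⟨g, rfl⟩ := hf h
    obtain ⟨v, hv, rfl⟩ := repB x hx
    have hPf : IsPGroup 2 ↥((P.comap f).map (centralizer ({z} : Set G)).subtype) :=
      (hP.comap_of_ker_isPGroup f (isPGroup_ker f hker hz2)).map _
    have hAP : F.A ≤ (P.comap f).map (centralizer ({z} : Set G)).subtype := fun a ha =>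
      ⟨⟨a, hAC ha⟩, hBP ⟨⟨a, hAC ha⟩, ha, rfl⟩, rfl⟩
    rw [← map_inv, ← map_mul, ← map_mul] at hh ⊢
    exact ⟨_, F.closed _ hPf hAP _ (F.E_mem v) g ⟨_, hh, rfl⟩, rfl⟩
  have hcentA : ∀ g : centralizer ({z} : Set G), f g ∈ centralizer (B : Set H) →
      ∀ a ∈ F.A, (g : G) * a * (g : G)⁻¹ = a := by
    intro g hg
    have h1 : ∀ v, (g : G) * F.E v * (g : G)⁻¹ = F.E v ∨
        (g : G) * F.E v * (g : G)⁻¹ = F.E (v + pair34) := by
      intro v
      have := (mem_centralizer_iff.1 hg _ (hmemB v)).symm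
      rw [← mul_inv_eq_iff_eq_mul, ← map_inv, ← map_mul, ← map_mul] at this
      rcases eq_or_of_map_eq f hker this.symm with e | e
      · exact Or.inl e
      · exact Or.inr (e.trans (F.E_add v pair34).symm)
    have hn : (g : G) ∈ normalizer (F.A : Set G) := mem_normalizer_of_forall fun a ha => by
      obtain ⟨v, rfl⟩ := F.exists_E ha
      rcases h1 v with e | e <;> rw [e] <;> exact F.E_mem _
    obtain ⟨σ, hs, hact⟩ := F.act g hn
    have hσ : σ = 1 := pair_centralizer σ hs
      (fun i => (h1 (unit5 i)).imp (fun e => F.E_inj ((hact _).symm.trans e))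
        fun e => F.E_inj ((hact _).symm.trans e))
      (F.E_inj ((hact pair34).symm.trans
        (mul_inv_eq_iff_eq_mul.2 (mem_centralizer_singleton_iff.1 g.2))))
    subst hσ
    exact F.centralizes_of_acts_one hact
  have hsylow : ¬ 2 ∣ B.relIndex (centralizer (B : Set H)) := by
    set K := ((centralizer (B : Set H)).comap f).map (centralizer ({z} : Set G)).subtype with hK
    have hle : A' ≤ (centralizer (B : Set H)).comap f := fun x hx => mem_centralizer_iff.2
      fun y hy => by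
        haveI := helem.1
        exact congrArg Subtype.val
          (mul_comm' (⟨y, hy⟩ : B) ⟨f x, mem_map_of_mem f hx⟩)
    have hAK : F.A ≤ K := fun a ha => ⟨⟨a, hAC ha⟩, hle ha, rfl⟩
    have h1 := F.sylow_of_centralizes hAK (by
      rintro _ ⟨g, hg, rfl⟩ - a ha
      exact hcentA g hg a ha)
    intro h
    refine h1 ?_
    have e1 : B.relIndex (centralizer (B : Set H)) = A'.relIndex ((centralizer (B : Set H)).comap f) := by
      have e0 : B.comap f = A' := by rw [hB, comap_map_eq_self hkA]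
      rw [← e0, relIndex_comap, map_comap_eq_self_of_surjective hf]
    have e2 : F.A.relIndex K = A'.relIndex ((centralizer (B : Set H)).comap f) := by
      rw [hK, hA', show F.A.subgroupOf (centralizer ({z} : Set G)) =
        F.A.comap (centralizer ({z} : Set G)).subtype from rfl, relIndex_comap]
    rw [e2, ← e1]; exact h
  have hloc := F.loc_pair hz f hf hker
  have hyp : Hyp B := ⟨helem, hclosed, hsylow, hloc⟩
  obtain ⟨p1, p2, p3, p4, p5, p6, p7, p8, p9, p10, p11⟩ := pair_two_classes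
  refine good_of_normal f hker hAC hzA hz2 hf (hyp.normal_sup_oddCore (by omega)
    ⟨_, hmemB (unit5 0), _, hmemB (unit5 3), ?_, ?_, ?_⟩)
  · intro e
    rcases (hker _).1 e with e | e
    · exact F.E_ne_one p7 e
    · exact p8 (F.E_inj e)
  · intro e
    rcases (hker _).1 e with e | e
    · exact F.E_ne_one p4 e
    · exact p9 (F.E_inj e)
  · intro h e
    obtain ⟨g, rfl⟩ := hf h
    rw [← map_inv, ← map_mul, ← map_mul] at e
    have hgz : (g : G) * z * (g : G)⁻¹ = z :=
      mul_inv_eq_iff_eq_mul.2 (mem_centralizer_singleton_iff.1 g.2)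
    rcases eq_or_of_map_eq f hker e.symm with e' | e'
    · have h2 : (g : G) * F.E (unit5 0 + pair34) * (g : G)⁻¹ = F.E (unit5 3 + pair34) := by
        rw [F.E_add, F.E_add, ← hz]
        calc (g : G) * (F.E (unit5 0) * z) * (g : G)⁻¹
            = ((g : G) * F.E (unit5 0) * (g : G)⁻¹) * ((g : G) * z * (g : G)⁻¹) := by group
          _ = _ := by rw [hgz]; exact congrArg (· * z) e'
      have := F.conj_cls _ _ g h2 p6
      rw [p1, p3] at this
      exact Bool.false_ne_true this
    · have e'' : (g : G) * F.E (unit5 0) * (g : G)⁻¹ = F.E (unit5 3) * z := e'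
      have h2 : (g : G) * F.E (unit5 0 + pair34) * (g : G)⁻¹ = F.E (unit5 3) := by
        rw [F.E_add, ← hz]
        calc (g : G) * (F.E (unit5 0) * z) * (g : G)⁻¹
            = ((g : G) * F.E (unit5 0) * (g : G)⁻¹) * ((g : G) * z * (g : G)⁻¹) := by group
          _ = F.E (unit5 3) * (z * z) := by rw [hgz, e'', mul_assoc]
          _ = _ := by rw [hz2, mul_one]
      have := F.conj_cls _ _ g h2 p6
      rw [p1, p2] at this
      exact Bool.false_ne_true this

theorem good_all {v : V5} (hv : ¬ Eqv v 0) : Good F.A (F.E v) := by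
  rcases cases_cls v hv with ⟨-, i, hi⟩ | ⟨-, i, j, hij, h⟩
  · rw [F.E_eqv hi]; exact F.good_unit i
  · obtain ⟨σ, hs, h3, h4⟩ := exists_even_pair i j hij
    obtain ⟨n, hnA, hn⟩ := F.lift_all σ hs
    have hgood := F.good_pair.conj hnA
    have e : n * F.E pair34 * n⁻¹ = F.E v := by
      rw [show n * F.E pair34 * n⁻¹ = F.E (pm σ pair34) from hn _, pair34, pm_add, pm_unit5,
        pm_unit5, h3, h4, F.E_eqv h]
    rwa [e] at hgood

/-- The conclusion. -/
theorem normal : (F.A ⊔ oddCore G).Normal := by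
  have hle : F.A ≤ centralizer (F.A : Set G) := F.le_centralizer_set le_rfl
  have hyp : Hyp F.A := by
    refine ⟨F.elem, F.closed, F.sylow_of_centralizes hle (fun n hn _ a ha => ?_), ?_⟩
    · rw [mul_inv_eq_iff_eq_mul]; exact (mem_centralizer_iff.1 hn a ha).symm
    · intro b hb hb1 g hg
      obtain ⟨v, rfl⟩ := F.exists_E hb
      exact (F.good_all fun e => hb1 ((F.E_eqv e).trans F.E_zero)).loc F.isPGroup_A
        (F.le_centralizer hb) hg
  refine hyp.normal_sup_oddCore (by rw [F.card_A]; norm_num)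
    ⟨_, F.E_mem (unit5 4), _, F.E_mem (unit5 3 + unit5 4), F.E_ne_one cls_facts.2.2.1,
      F.E_ne_one cls_facts.2.2.2.1, fun g e => ?_⟩
  have := F.conj_cls _ _ g e cls_facts.2.2.1
  rw [cls_facts.1, cls_facts.2.1] at this
  exact Bool.false_ne_true this.symm

end Frame

end CfsgLib.StrongTwoClasses
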